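import Cfsg.Agent.Omega.FOne.Act.Min
import Cfsg.Agent.Omega.FF.GlobEnd

/-!
# (F1'), the minimal parabolic case, closed form

`no_min` : in the faithful section of the reduction of (6''), `T` lies in at least two maximal subgroups of `H`.
-/

set_option autoImplicit false
set_option linter.unusedSectionVars false

namespace Cfsg.Agent.Omega.FOne.Act

open Subgroup
open Cfsg.Agent.Omega.FOne.Tvw (Base)
open Cfsg.Agent.Omega.FOne.AT
open Cfsg.Agent.Omega.FOne.NOv (MAtom)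

universe u

variable {W : Type u} [AddCommGroup W] [Module (ZMod 2) W] [Finite W] {H : Subgroup (W ≃ₗ[ZMod 2] W)} {y : W}

/-- **nmax** -/
theorem no_min (base : Base H y) {T : Subgroup (W ≃ₗ[ZMod 2] W)} (TH : T ≤ H)
    (two : IsPGroup 2 T) (syl : ¬ 2 ∣ T.relIndex H) (fix : ∀ w, (∀ t ∈ T, t w = w) → w = 0 ∨ w = y) {θ : W}
    (θ0 : θ ≠ 0) (θy : θ ≠ y) (Tθ : ∀ t ∈ T, t θ = θ ∨ t θ = θ + y)
    (gen : ∀ U : Submodule (ZMod 2) W, y ∈ U → (∀ x ∈ H, x θ ∈ U) → U = ⊤) {B : Subgroup (W ≃ₗ[ZMod 2] W)}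
    (BT : B ≤ T) (sq : ∀ b ∈ B, b * b = 1) (hB : MAtom y B) (h4 : 4 ≤ Nat.card B)
    {M0 : Subgroup (W ≃ₗ[ZMod 2] W)} (hM0 : ¬ H ≤ M0) : ¬ ∀ K, T ≤ K → K ≤ H → K ≤ M0 ∨ K = H := fun max =>
  false_of_min FF.Glob.aStmt base TH two syl fix θ0 θy (fun t ht => mod_iff.2 (Tθ t ht)) gen BT sq hB h4 hM0 max

end Cfsg.Agent.Omega.FOne.Act
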