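import Cfsg.Agent.Omega.FOne.AT.Core

/-!
# (F1'), the minimal parabolic case: lifts are unique

`e : W → E` additive, `e y = 0`, `ker e` invariant under `H`.  An element of `H` which is trivial on `W / ker e` and on
`ker e / y` is `1`, because `O₂(H) = 1`.
-/

set_option autoImplicit false
set_option linter.unusedSectionVars false

namespace Cfsg.Agent.Omega.FOne.Act

open Cfsg.Agent.Omega.FOne.Tvw (Base addself z2 eq_of_add_eq_zero' ap_inv inv_ap)
open Cfsg.Agent.Omega.FOne.AT

variable {W : Type*} [AddCommGroup W] [Module (ZMod 2) W] {E : Type*} [AddCommGroup E]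

/-- `e : W → E`, trivial on `y`, with `H`-invariant kernel -/
structure Ek (H : Subgroup (W ≃ₗ[ZMod 2] W)) (y : W) (e : W →+ E) : Prop where
  base : Base H y
  ey : e y = 0
  kinv : ∀ h ∈ H, ∀ w, e w = 0 → e (h w) = 0

variable {H : Subgroup (W ≃ₗ[ZMod 2] W)} {y : W} {e : W →+ E}

theorem Base.ap_Yy {y : W} (b : Base H y) {g : W ≃ₗ[ZMod 2] W} (hg : g ∈ H) {a : W} (ha : a ∈ Yy y) : g a ∈ Yy y := by
  rw [Base.fixY b hg ha]; exact ha

namespace Ek

variable (h : Ek H y e)
include h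

theorem e_Yy {a : W} (ha : a ∈ Yy y) : e a = 0 := by
  rcases ha with rfl | rfl
  · exact map_zero e
  · exact h.ey

/-- the elements of `H`, trivial on `W / ker e` and on `ker e / y` -/
theorem uniq {g : W ≃ₗ[ZMod 2] W} (hg : g ∈ H) (h1 : ∀ w, e (g w) = e w)
    (h2 : ∀ w, e w = 0 → g w + w ∈ Yy y) : g = 1 := by
  have d0 : ∀ k : W ≃ₗ[ZMod 2] W, (∀ w, e (k w) = e w) → ∀ w, e (k w + w) = 0 := by
    intro k hk w
    rw [map_add, hk, ← map_add, addself, map_zero]
  let N : Subgroup (W ≃ₗ[ZMod 2] W) :=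
    { carrier := {k | k ∈ H ∧ (∀ w, e (k w) = e w) ∧ ∀ w, e w = 0 → k w + w ∈ Yy y}
      one_mem' := ⟨H.one_mem, fun w => rfl, fun w _ => by
        change w + w ∈ Yy y
        rw [addself]; exact (Yy y).zero_mem⟩
      mul_mem' := by
        rintro a b ⟨ha, ha1, ha2⟩ ⟨hb, hb1, hb2⟩
        refine ⟨H.mul_mem ha hb, fun w => ?_, fun w hw => ?_⟩
        · change e (a (b w)) = e w
          rw [ha1, hb1]
        · change a (b w) + w ∈ Yy y
          have h3 := ha2 (b w) (by rw [hb1, hw])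
          have h4 := (Yy y).add_mem h3 (hb2 w hw)
          have h5 : a (b w) + w = a (b w) + b w + (b w + w) := by
            linear_combination (norm := module) -addself (b w)
          rw [h5]; exact h4
      inv_mem' := by
        rintro a ⟨ha, ha1, ha2⟩
        refine ⟨H.inv_mem ha, fun w => ?_, fun w hw => ?_⟩
        · have := ha1 (a⁻¹ w)
          rw [ap_inv] at this
          exact this.symm
        · have h3 := ha1 (a⁻¹ w)
          rw [ap_inv, hw] at h3
          have h4 := ha2 _ h3.symm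
          rw [ap_inv, add_comm] at h4
          exact h4 }
  have hN2 : IsPGroup 2 N := by
    rintro ⟨k, hk, hk1, hk2⟩
    refine ⟨1, Subtype.ext ?_⟩
    change k ^ 2 ^ 1 = 1
    rw [pow_one, pow_two]
    refine Base.one_of h.base (H.mul_mem hk hk) fun w => ?_
    change k (k w) + w ∈ Yy y
    have h3 := hk2 _ (d0 k hk1 w)
    rw [map_add] at h3
    have h4 : k (k w) + w = k (k w) + k w + (k w + w) := by
      linear_combination (norm := module) -addself (k w)
    rw [h4]; exact h3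
  have hNn : ∀ x ∈ H, ∀ n ∈ N, x * n * x⁻¹ ∈ N := by
    rintro x hx n ⟨hn, hn1, hn2⟩
    refine ⟨H.mul_mem (H.mul_mem hx hn) (H.inv_mem hx), fun w => ?_, fun w hw => ?_⟩
    · change e (x (n (x⁻¹ w))) = e w
      have h3 := h.kinv x hx _ (d0 n hn1 (x⁻¹ w))
      rw [map_add, ap_inv, map_add] at h3
      have h4 : e w + e w = 0 := by rw [← map_add, addself, map_zero]
      have h5 : e (x (n (x⁻¹ w))) = e (x (n (x⁻¹ w))) + e w - e w := by abel
      rw [h5, h3, zero_sub]
      exact neg_eq_of_add_eq_zero_left h4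
    · change x (n (x⁻¹ w)) + w ∈ Yy y
      have h3 := Base.ap_Yy h.base hx (hn2 _ (h.kinv x⁻¹ (H.inv_mem hx) w hw))
      rw [map_add, ap_inv] at h3
      exact h3
  have hbot := h.base.core N (fun k hk => hk.1) hNn hN2
  have : g ∈ N := ⟨hg, h1, h2⟩
  rw [hbot] at this
  exact Subgroup.mem_bot.1 this

theorem uniq2 {g g' : W ≃ₗ[ZMod 2] W} (hg : g ∈ H) (hg' : g' ∈ H) (h1 : ∀ w, e (g w) = e (g' w))
    (h2 : ∀ w, e w = 0 → g w + w ∈ Yy y) (h2' : ∀ w, e w = 0 → g' w + w ∈ Yy y) : g = g' := by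
  have h3 : g * g'⁻¹ = 1 := h.uniq (H.mul_mem hg (H.inv_mem hg')) (fun w => by
    change e (g (g'⁻¹ w)) = e w
    rw [h1, ap_inv]) fun w hw => by
      change g (g'⁻¹ w) + w ∈ Yy y
      have h4 := h.kinv g'⁻¹ (H.inv_mem hg') w hw
      have h5 := h2 _ h4
      have h6 := h2' _ h4
      rw [ap_inv] at h6
      have h7 : g (g'⁻¹ w) + w = g (g'⁻¹ w) + g'⁻¹ w + (w + g'⁻¹ w) := by
        linear_combination (norm := module) -addself (g'⁻¹ w)
      rw [h7]
      exact (Yy y).add_mem h5 h6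
  exact mul_inv_eq_one.1 h3

end Ek

end Cfsg.Agent.Omega.FOne.Act
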