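import Cfsg.Agent.Omega.FOne.Act.Quo

/-!
# (F1'), the minimal parabolic case

`false_of_min` : `H` is not minimal parabolic (`T` is in at least two maximal subgroups), from the FF theorem and the
swap of `θ`, `θ + y` by `T`.
-/

set_option autoImplicit false
set_option linter.unusedSectionVars false

namespace Cfsg.Agent.Omega.FOne.Act

open Subgroup
open Cfsg.Agent.Lib.SL2Mat Cfsg.Agent.Omega.NatPair Cfsg.Agent.Omega.FFBr
open Cfsg.Agent.Omega.FOne.Tvw (Base addself z2 eq_of_add_eq_zero' ap_inv inv_ap)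
open Cfsg.Agent.Omega.FOne.AT
open Cfsg.Agent.Omega.FOne.NOv (cm MEx MAtom)
open Cfsg.Agent.ClassTwoFusion.Quad (cv mem_cv)

universe u

variable {W : Type u} [AddCommGroup W] [Module (ZMod 2) W] {H : Subgroup (W ≃ₗ[ZMod 2] W)} {y : W}

/-- the projection as a homomorphism -/
def mkH (y : W) : Multiplicative W →* MV y := AddMonoidHom.toMultiplicative (QuotientAddGroup.mk' (Yy y))

theorem mkH_apply (y w : W) : mkH y (Multiplicative.ofAdd w) = mk y w := rfl

theorem mkH_surj (y : W) : Function.Surjective (mkH y) := fun v => by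
  obtain ⟨w, hw⟩ := mk_surj v
  exact ⟨Multiplicative.ofAdd w, hw⟩

section

variable [Finite W] [MulDistribMulAction H (MV y)] (hA : IsA H y)
include hA

/-- exactness on `W / y` -/
theorem index_cv {B : Subgroup (W ≃ₗ[ZMod 2] W)} (hBH : B ≤ H) (ex : MEx y B) :
    (cv (MV y) ((B.subgroupOf H : Subgroup H) : Set H)).index = Nat.card B := by
  classical
  have h1 := Subgroup.index_comap_of_surjective (cv (MV y) ((B.subgroupOf H : Subgroup H) : Set H)) (mkH_surj y)
  rw [← h1]
  set C := (cv (MV y) ((B.subgroupOf H : Subgroup H) : Set H)).comap (mkH y) with hC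
  have h2 : Nat.card C = Nat.card (cm y B) := by
    refine Nat.card_congr (Equiv.subtypeEquiv Multiplicative.toAdd fun w => ?_)
    obtain ⟨w, rfl⟩ := Multiplicative.ofAdd.surjective w
    rw [hC, mem_comap, mem_cv]
    change (∀ a ∈ (B.subgroupOf H : Set H), a • mk y w = mk y w) ↔ ∀ b ∈ B, b w = w ∨ b w = w + y
    constructor
    · intro h3 b hb
      have h4 := h3 ⟨b, hBH hb⟩ hb
      rw [hA.smul, mk_eq] at h4
      exact mod_iff.1 h4
    · intro h3 a ha
      rw [hA.smul, mk_eq]
      exact mod_iff.2 (h3 _ ha)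
  have h3 : Nat.card C * C.index = Nat.card W := C.card_mul_index
  rw [h2] at h3
  unfold MEx at ex
  have hpos : 0 < Nat.card (cm y B) := by
    have : Nonempty (cm y B) := ⟨⟨0, Cfsg.Agent.Omega.FOne.NOv.zero_mem_cm⟩⟩
    exact Nat.card_pos
  refine Nat.eq_of_mul_eq_mul_left hpos ?_
  rw [h3, ← ex, mul_comm]

theorem aOff_of {B : Subgroup (W ≃ₗ[ZMod 2] W)} (hBH : B ≤ H) (sq : ∀ b ∈ B, b * b = 1) (hne : B ≠ ⊥)
    (ex : MEx y B) : AOff (MV y) (B.subgroupOf H) where
  comm := by
    intro a ha b hb
    have h1 := sq _ (B.mul_mem ha hb)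
    have ha2 := sq _ ha
    have hb2 := sq _ hb
    apply Subtype.ext
    change (a : W ≃ₗ[ZMod 2] W) * b = b * a
    have h2 : ((a : W ≃ₗ[ZMod 2] W) * b)⁻¹ = a * b := inv_eq_of_mul_eq_one_left h1
    have ha3 : (a : W ≃ₗ[ZMod 2] W)⁻¹ = a := inv_eq_of_mul_eq_one_left ha2
    have hb3 : (b : W ≃ₗ[ZMod 2] W)⁻¹ = b := inv_eq_of_mul_eq_one_left hb2
    rw [← h2, mul_inv_rev, ha3, hb3]
  sq := fun a ha => Subtype.ext (sq _ ha)
  ne := by
    intro h
    apply hne
    rw [eq_bot_iff]
    intro b hb
    have h1 : (⟨b, hBH hb⟩ : H) ∈ B.subgroupOf H := hb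
    rw [h, mem_bot] at h1
    exact mem_bot.2 (congrArg Subtype.val h1)
  le := by
    rw [index_cv hA hBH ex]
    exact (Nat.card_congr (Subgroup.subgroupOfEquivOfLe hBH).toEquiv).ge

end

/-- if every element of `H` is trivial on `W / y`, then `H = 1` -/
theorem false_of_triv {T : Subgroup (W ≃ₗ[ZMod 2] W)} (TH : T ≤ H)
    (fix : ∀ w, (∀ t ∈ T, t w = w) → w = 0 ∨ w = y) {θ : W} (θ0 : θ ≠ 0) (θy : θ ≠ y) (h1 : H = ⊥) : False := by
  rcases fix θ (fun t ht => by
    have h2 := TH ht
    rw [h1, mem_bot] at h2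
    rw [h2]; rfl) with h | h
  · exact θ0 h
  · exact θy h

/-- **the minimal parabolic case**, from the FF theorem -/
theorem false_of_min (hFF : AStmt.{u}) [Finite W] (base : Base H y) {T : Subgroup (W ≃ₗ[ZMod 2] W)} (TH : T ≤ H)
    (two : IsPGroup 2 T) (syl : ¬ 2 ∣ T.relIndex H) (fix : ∀ w, (∀ t ∈ T, t w = w) → w = 0 ∨ w = y) {θ : W}
    (θ0 : θ ≠ 0) (θy : θ ≠ y) (Tθ : ∀ t ∈ T, t θ + θ ∈ Yy y)
    (gen : ∀ U : Submodule (ZMod 2) W, y ∈ U → (∀ x ∈ H, x θ ∈ U) → U = ⊤) {B : Subgroup (W ≃ₗ[ZMod 2] W)}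
    (BT : B ≤ T) (sq : ∀ b ∈ B, b * b = 1) (hB : MAtom y B) (h4 : 4 ≤ Nat.card B)
    {M0 : Subgroup (W ≃ₗ[ZMod 2] W)} (hM0 : ¬ H ≤ M0) (max : ∀ K, T ≤ K → K ≤ H → K ≤ M0 ∨ K = H) : False := by
  classical
  have hfin : Finite (W ≃ₗ[ZMod 2] W) := DFunLike.finite _
  let ia : MulDistribMulAction H (MV y) := act base.fix
  have hA : IsA H y := isA_act base.fix
  have hBH := BT.trans TH
  have hHne : H ≠ ⊥ := fun h => false_of_triv TH fix θ0 θy h
  have hTM : T ≤ M0 := by
    rcases max T le_rfl TH with h | h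
    · exact h
    · exfalso
      exact hHne (base.core H le_rfl (fun g hg n hn => H.mul_mem (H.mul_mem hg hn) (H.inv_mem hg)) (h ▸ two))
  -- the Sylow group
  have hT2 : IsPGroup 2 (T.subgroupOf H) := two.comap_of_injective H.subtype H.subtype_injective
  have hTi : ¬ 2 ∣ (T.subgroupOf H).index := syl
  let S : Sylow 2 H := hT2.toSylow hTi
  have hS : (S : Subgroup H) = T.subgroupOf H := rfl
  have hmem : ∀ x : H, x ∈ S ↔ (x : W ≃ₗ[ZMod 2] W) ∈ T := fun x => Iff.rfl
  have hfixθ : ∀ t ∈ S, t • mk y θ = mk y θ := by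
    intro t ht
    rw [hA.smul, mk_eq]
    exact Tθ _ ht
  have abs : Abs H (MV y) S (M0.subgroupOf H) :=
    { comm := fun v w => mul_comm v w
      sq := by
        intro v
        obtain ⟨w, rfl⟩ := mk_surj v
        rw [← mk_add, addself, mk_one]
        exact (Yy y).zero_mem
      faith := by
        intro x hx
        apply Subtype.ext
        refine Base.one_of base x.2 fun w => ?_
        have := hx (mk y w)
        rw [hA.smul, mk_eq] at this
        exact this
      core := by
        intro N hN hN2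
        have h1 := base.core (N.map H.subtype) (map_subtype_le N) (by
          rintro h hh _ ⟨n, hn, rfl⟩
          exact ⟨⟨h, hh⟩ * n * ⟨h, hh⟩⁻¹, hN.conj_mem n hn ⟨h, hh⟩, rfl⟩) (hN2.map H.subtype)
        exact (map_eq_bot_iff_of_injective N H.subtype_injective).1 h1
      TM := fun x hx => hTM hx
      Mne := by
        intro h
        apply hM0
        intro x hx
        have h1 : (⟨x, hx⟩ : H) ∈ M0.subgroupOf H := by rw [h]; exact mem_top _
        exact h1
      max := by
        intro K hK
        have h1 : T ≤ K.map H.subtype := fun t ht => ⟨⟨t, TH ht⟩, hK ht, rfl⟩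
        rcases max _ h1 (map_subtype_le K) with h2 | h2
        · left
          intro x hx
          exact h2 ⟨x, hx, rfl⟩
        · right
          rw [eq_top_iff]
          intro x _
          have h3 : (x : W ≃ₗ[ZMod 2] W) ∈ K.map H.subtype := by rw [h2]; exact x.2
          obtain ⟨z, hz, hzx⟩ := h3
          have : z = x := Subtype.ext hzx
          rwa [← this]
      gen := by
        intro U hU
        let U' : Submodule (ZMod 2) W :=
          { carrier := {w | mk y w ∈ U}
            zero_mem' := U.one_mem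
            add_mem' := fun {a b} ha hb => U.mul_mem ha hb
            smul_mem' := by
              intro c w hw
              rcases z2 c with rfl | rfl
              · rw [zero_smul]; exact U.one_mem
              · rw [one_smul]; exact hw }
        have h1 : U' = ⊤ := gen U' (by
          change mk y y ∈ U
          rw [mk_one.2 (y_mem y)]; exact U.one_mem) fun x hx => by
            change mk y (x θ) ∈ U
            have h2 := hU (mk y θ) (fun t ht => hfixθ t ht) ⟨x, hx⟩
            rw [hA.smul] at h2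
            exact h2
        rw [eq_top_iff]
        intro v _
        obtain ⟨w, rfl⟩ := mk_surj v
        have h2 : w ∈ U' := by rw [h1]; exact Submodule.mem_top
        exact h2
      nfix := by
        refine ⟨mk y θ, hfixθ, ?_⟩
        by_contra hcon
        push Not at hcon
        -- `H` is trivial on `W / y`
        let U : Submodule (ZMod 2) W :=
          { carrier := {w | ∀ x ∈ H, x w + w ∈ Yy y}
            zero_mem' := fun x _ => by rw [map_zero, add_zero]; exact (Yy y).zero_mem
            add_mem' := by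
              intro a b ha hb x hx
              have e1 : x (a + b) + (a + b) = (x a + a) + (x b + b) := by rw [map_add]; abel
              rw [e1]; exact (Yy y).add_mem (ha x hx) (hb x hx)
            smul_mem' := by
              intro c w hw x hx
              rcases z2 c with rfl | rfl
              · rw [zero_smul, map_zero, add_zero]; exact (Yy y).zero_mem
              · rw [one_smul]; exact hw x hx }
        have hθ : ∀ x ∈ H, x θ + θ ∈ Yy y := by
          intro x hx
          have := hcon ⟨x, hx⟩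
          rw [hA.smul, mk_eq] at this
          exact this
        have h1 : U = ⊤ := gen U (fun x hx => by
          rw [base.fix x hx, addself]; exact (Yy y).zero_mem) fun x hx g hg => by
            have h2 := hθ x hx
            have h3 := hθ (g * x) (H.mul_mem hg hx)
            change g (x θ) + θ ∈ Yy y at h3
            have e1 : g (x θ) + x θ = g (x θ) + θ + (x θ + θ) := by
              linear_combination (norm := module) -addself θ
            rw [e1]; exact (Yy y).add_mem h3 h2
        apply hHne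
        rw [eq_bot_iff]
        intro x hx
        rw [mem_bot]
        refine Base.one_of base hx fun w => ?_
        have h2 : w ∈ U := by rw [h1]; exact Submodule.mem_top
        exact h2 x hx }
  have hoff := aOff_of hA hBH sq hB.ne hB.ex
  obtain ⟨-, hC⟩ := hFF H (MV y) S (M0.subgroupOf H) abs ⟨_, hoff⟩
  rcases hC with ⟨F, iF, fF, cF, k, hk, ⟨n⟩⟩ | ⟨k, m, hk, hm, ⟨n⟩⟩
  · have h1 : NatW H y T (pull n.e n.mul) := natW_of hA base TH n
    by_cases hν : ∃ ν : F, ν ≠ 0 ∧ ν ≠ 1
    · let _ := Fintype.ofFinite F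
      exact h1.false_big hν hk two syl fix Tθ gen
    · push Not at hν
      exact h1.false_two (fun x => by
        by_cases hx : x = 0
        · exact Or.inl hx
        · exact Or.inr (hν x hx)) hk two fix
  · have h1 : SymW H y (pull n.e n.mul) := symW_of hA base n
    have hBS : B.subgroupOf H ≤ (S : Subgroup H) := fun x hx => BT hx
    obtain ⟨h2, h3⟩ := n.off _ hBS hoff
    obtain ⟨a, ha, ha1⟩ : ∃ a ∈ B, a ≠ 1 := by
      by_contra hcon
      push Not at hcon
      exact hB.ne (by rw [eq_bot_iff]; exact fun x hx => mem_bot.2 (hcon x hx))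
    obtain ⟨τ, hτ, hτ2⟩ := h3 ⟨a, hBH ha⟩ ha
    obtain ⟨i, x, hx⟩ : ∃ i x, τ i x ≠ x := by
      by_contra hcon
      push Not at hcon
      apply ha1
      refine h1.toEk.uniq (hBH ha) (fun w => ?_) fun w hw => tr_of hA base n.mul n.ker (h2 ⟨a, hBH ha⟩ ha) hw
      funext i x
      have h5 := hτ (mk y w) i x
      rw [hA.smul, hcon i x] at h5
      exact h5
    obtain ⟨-, b, hb, hb2⟩ := hτ2 i x hx
    have hbe : (b : W ≃ₗ[ZMod 2] W) = h1.tr i x (τ i x) := by
      refine h1.eq_L b.2 (fun w j z => ?_) fun w hw => tr_of hA base n.mul n.ker (h2 b hb) hw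
      have h5 := hb2 (mk y w) j z
      rw [hA.smul] at h5
      exact h5
    have hn : 5 ≤ 2 ^ m + 1 := by
      have : 2 ^ 2 ≤ 2 ^ m := Nat.pow_le_pow_right (by norm_num) hm
      omega
    obtain ⟨h6, h7⟩ := h1.ex_tr hn i (Ne.symm hx)
    rw [← hbe] at h6 h7
    have h8 : zpowers (b : W ≃ₗ[ZMod 2] W) ≤ B := zpowers_le.2 hb
    have h9 := hB.min _ h8 (by
      intro h
      exact h7 (zpowers_eq_bot.1 h)) h6
    have h10 : Nat.card (zpowers (b : W ≃ₗ[ZMod 2] W)) ≤ 2 := by
      rw [Nat.card_zpowers]
      refine Nat.le_of_dvd (by norm_num) (orderOf_dvd_of_pow_eq_one ?_)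
      rw [pow_two]; exact sq _ hb
    rw [h9] at h10
    omega

end Cfsg.Agent.Omega.FOne.Act
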