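import Cfsg.Agent.Omega.FOne.Act.Lift
import Cfsg.Agent.Omega.Tools.OddFix

/-!
# (F1'), the minimal parabolic case: `(W / y) / C(O²(H))` is a sum of natural `SL₂(F)`-modules

Then `T` does not swap `θ`, `θ + y`.
-/

set_option autoImplicit false
set_option linter.unusedSectionVars false

namespace Cfsg.Agent.Omega.FOne.Act

open Cfsg.Agent.Lib.SL2Mat Cfsg.Agent.Omega.NatPair
open Cfsg.Agent.Omega.FOne.Tvw (Base addself z2 eq_of_add_eq_zero' ap_inv inv_ap)
open Cfsg.Agent.Omega.FOne.AT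

variable {W : Type*} [AddCommGroup W] [Module (ZMod 2) W] {F : Type*} [Field F] {k : ℕ}

/-- the conclusion of the FF theorem in the natural case, for `W / y` -/
structure NatW (H : Subgroup (W ≃ₗ[ZMod 2] W)) (y : W) (T : Subgroup (W ≃ₗ[ZMod 2] W))
    (e : W →+ (Fin k → Fin 2 → F)) : Prop extends Ek H y e where
  TH : T ≤ H
  surj : ∀ x, ∃ w, e w = x
  lift : ∀ A : Fin k → Matrix.SpecialLinearGroup (Fin 2) F, ∃ g ∈ H, (∀ w i, e (g w) i = ap (A i) (e w i)) ∧
    ∀ w, e w = 0 → g w + w ∈ Yy y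
  norm : ∀ g ∈ H, ∀ h ∈ H, ∀ A : Fin k → Matrix.SpecialLinearGroup (Fin 2) F,
    (∀ w i, e (h w) i = ap (A i) (e w i)) →
      ∃ B : Fin k → Matrix.SpecialLinearGroup (Fin 2) F, ∀ w i, e ((g * h * g⁻¹) w) i = ap (B i) (e w i)
  line : ∀ t ∈ T, ∃ σ : Equiv.Perm (Fin k), ∀ w i, e (t w) (σ i) 1 = 0 ↔ e w i 1 = 0
  unip : ∀ b : Fin k → F, ∃ t ∈ T, (∀ w i, e (t w) i = ap (up (b i)) (e w i)) ∧ ∀ w, e w = 0 → t w + w ∈ Yy y

/-- commutators fix more -/
theorem comm_fix {X Y : W ≃ₗ[ZMod 2] W} {w : W} {C : AddSubgroup W} (hX : ∀ c ∈ C, X c = c) (hY : ∀ c ∈ C, Y c = c)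
    (h1 : X w + w ∈ C) (h2 : Y w + w ∈ C) : (X * Y * X⁻¹ * Y⁻¹) w = w := by
  have key : ∀ {Z : W ≃ₗ[ZMod 2] W}, (∀ c ∈ C, Z c = c) → Z w + w ∈ C → Z⁻¹ w = w + (Z w + w) := by
    intro Z hZ hz
    have h3 : Z (w + (Z w + w)) = w := by
      rw [map_add, hZ _ hz]
      linear_combination (norm := module) addself (Z w)
    have h4 := congrArg (fun v => Z⁻¹ v) h3
    simp only [inv_ap] at h4
    exact h4.symm
  obtain ⟨α, hα⟩ : ∃ α, α = X w + w := ⟨_, rfl⟩
  obtain ⟨β, hβ⟩ : ∃ β, β = Y w + w := ⟨_, rfl⟩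
  have eX : X w = w + α := by rw [hα]; linear_combination (norm := module) -addself w
  have eY : Y w = w + β := by rw [hβ]; linear_combination (norm := module) -addself w
  have iX := key hX h1
  have iY := key hY h2
  rw [← hα] at iX h1
  rw [← hβ] at iY h2
  have fX : X⁻¹ β = β := by
    have := congrArg (fun v => X⁻¹ v) (hX β h2)
    simp only [inv_ap] at this
    exact this.symm
  change X (Y (X⁻¹ (Y⁻¹ w))) = w
  have e1 : Y (w + α + β) = w + α := by
    rw [map_add, map_add, eY, hY α h1, hY β h2]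
    linear_combination (norm := module) addself β
  rw [iY, map_add, iX, fX, e1, map_add, eX, hX α h1]
  linear_combination (norm := module) addself α

/-- `|F| > 2`: every element of `SL₂(F)` is a product of four commutators -/
theorem up_comm [CharP F 2] {ν : F} (h0 : ν ≠ 0) (h1 : ν ≠ 1) (b : F) :
    up b = dg ν h0 * up (b / (ν ^ 2 - 1)) * (dg ν h0)⁻¹ * (up (b / (ν ^ 2 - 1)))⁻¹ := by
  have hn : ν ^ 2 - 1 ≠ 0 := by
    intro h
    have h2 : (ν + 1) * (ν + 1) = 0 := by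
      have h3 := CharTwo.add_self_eq_zero ν
      have h4 := CharTwo.add_self_eq_zero (1 : F)
      linear_combination h + h3 + h4
    have h5 := mul_self_eq_zero.1 h2
    exact h1 (CharTwo.add_eq_zero.1 h5)
  rw [dg_up, mul_inv_cancel_right, up_inv, up_mul]
  congr 1
  field_simp
  ring

theorem lo_comm [CharP F 2] {ν : F} (h0 : ν ≠ 0) (h1 : ν ≠ 1) (b : F) :
    ∃ X Y : Matrix.SpecialLinearGroup (Fin 2) F, lo b = X * Y * X⁻¹ * Y⁻¹ := by
  have h2 : lo b = wm 1 one_ne_zero * up (-b) * (wm 1 one_ne_zero)⁻¹ := by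
    rw [wm_up, mul_inv_cancel_right]
    congr 1
    simp
  refine ⟨wm 1 one_ne_zero * dg ν h0 * (wm 1 one_ne_zero)⁻¹,
    wm 1 one_ne_zero * up (-b / (ν ^ 2 - 1)) * (wm 1 one_ne_zero)⁻¹, ?_⟩
  rw [h2, up_comm h0 h1 (-b)]
  group

namespace NatW

variable {H : Subgroup (W ≃ₗ[ZMod 2] W)} {y : W} {T : Subgroup (W ≃ₗ[ZMod 2] W)} {e : W →+ (Fin k → Fin 2 → F)}
variable (h : NatW H y T e)

/-- the lift of `SL₂(F)^k` -/
noncomputable def L : (Fin k → Matrix.SpecialLinearGroup (Fin 2) F) →* (W ≃ₗ[ZMod 2] W) :=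
  MonoidHom.mk' (fun A => (h.lift A).choose) fun A B => by
    obtain ⟨h1, h2, h3⟩ := (h.lift (A * B)).choose_spec
    obtain ⟨a1, a2, a3⟩ := (h.lift A).choose_spec
    obtain ⟨b1, b2, b3⟩ := (h.lift B).choose_spec
    refine h.toEk.uniq2 h1 (H.mul_mem a1 b1) (fun w => ?_) h3 fun w hw => ?_
    · funext i
      change _ = e ((h.lift A).choose ((h.lift B).choose w)) i
      rw [h2, a2, b2, Pi.mul_apply, ap_mul]
    · change (h.lift A).choose ((h.lift B).choose w) + w ∈ Yy y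
      have h4 := b3 w hw
      have h5 := a3 ((h.lift B).choose w) (h.kinv _ b1 w hw)
      have h6 : (h.lift A).choose ((h.lift B).choose w) + w =
          (h.lift A).choose ((h.lift B).choose w) + (h.lift B).choose w + ((h.lift B).choose w + w) := by
        linear_combination (norm := module) -addself ((h.lift B).choose w)
      rw [h6]
      exact (Yy y).add_mem h5 h4

theorem L_mem (A : Fin k → Matrix.SpecialLinearGroup (Fin 2) F) : h.L A ∈ H := (h.lift A).choose_spec.1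

theorem L_e (A : Fin k → Matrix.SpecialLinearGroup (Fin 2) F) (w : W) (i : Fin k) :
    e (h.L A w) i = ap (A i) (e w i) := (h.lift A).choose_spec.2.1 w i

theorem L_Yy (A : Fin k → Matrix.SpecialLinearGroup (Fin 2) F) {w : W} (hw : e w = 0) : h.L A w + w ∈ Yy y :=
  (h.lift A).choose_spec.2.2 w hw

/-- a lift is `L` -/
theorem eq_L {g : W ≃ₗ[ZMod 2] W} (hg : g ∈ H) {A : Fin k → Matrix.SpecialLinearGroup (Fin 2) F}
    (h1 : ∀ w i, e (g w) i = ap (A i) (e w i)) (h2 : ∀ w, e w = 0 → g w + w ∈ Yy y) : g = h.L A :=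
  h.toEk.uniq2 hg (h.L_mem A) (fun w => funext fun i => by rw [h1, L_e]) h2 fun w hw => h.L_Yy A hw

/-- conjugates of `L A` -/
theorem conj_L {g : W ≃ₗ[ZMod 2] W} (hg : g ∈ H) (A : Fin k → Matrix.SpecialLinearGroup (Fin 2) F) :
    ∃ B, g * h.L A * g⁻¹ = h.L B := by
  obtain ⟨B, hB⟩ := h.norm g hg _ (h.L_mem A) A (h.L_e A)
  refine ⟨B, h.eq_L (H.mul_mem (H.mul_mem hg (h.L_mem A)) (H.inv_mem hg)) hB fun w hw => ?_⟩
  change g (h.L A (g⁻¹ w)) + w ∈ Yy y
  have h1 := Base.ap_Yy h.base hg (h.L_Yy A (h.kinv g⁻¹ (H.inv_mem hg) w hw))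
  rw [map_add, ap_inv] at h1
  exact h1

theorem L_inj : Function.Injective h.L := by
  intro A B hAB
  funext i
  have key : ∀ x : Fin 2 → F, ap (A i) x = ap (B i) x := by
    intro x
    obtain ⟨w, hw⟩ := h.surj fun _ => x
    have h1 := h.L_e A w i
    rw [hAB, h.L_e B w i, hw] at h1
    exact h1.symm
  have h0 := key ![1, 0]
  have h1 := key ![0, 1]
  have a0 := congrFun h0 0
  have a1 := congrFun h0 1
  have b0 := congrFun h1 0
  have b1 := congrFun h1 1
  simp only [ap_zero', ap_one', Matrix.cons_val_zero, Matrix.cons_val_one, mul_one, mul_zero, add_zero,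
    zero_add] at a0 a1 b0 b1
  exact ext_ent a0 b0 a1 b1

/-- `|F| > 2`: the lift is trivial on the kernel of `e` -/
theorem tr0 [CharP F 2] (hν : ∃ ν : F, ν ≠ 0 ∧ ν ≠ 1) (A : Fin k → Matrix.SpecialLinearGroup (Fin 2) F) {w : W}
    (hw : e w = 0) : h.L A w = w := by
  obtain ⟨ν, h0, h1⟩ := hν
  have hC : ∀ A, ∀ c ∈ Yy y, h.L A c = c := fun A c hc => Base.fixY h.base (h.L_mem A) hc
  have hcomm : ∀ X Y : Fin k → Matrix.SpecialLinearGroup (Fin 2) F, h.L (X * Y * X⁻¹ * Y⁻¹) w = w := by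
    intro X Y
    rw [map_mul, map_mul, map_mul, map_inv, map_inv]
    exact comm_fix (hC X) (hC Y) (h.L_Yy X hw) (h.L_Yy Y hw)
  have hup : ∀ b : Fin k → F, h.L (fun i => up (b i)) w = w := by
    intro b
    have := hcomm (fun _ => dg ν h0) (fun i => up (b i / (ν ^ 2 - 1)))
    have e1 : (fun i => up (b i)) = (fun _ : Fin k => dg ν h0) * (fun i => up (b i / (ν ^ 2 - 1))) *
        (fun _ : Fin k => dg ν h0)⁻¹ * (fun i => up (b i / (ν ^ 2 - 1)))⁻¹ := by
      funext i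
      exact up_comm h0 h1 (b i)
    rw [e1]; exact this
  have hlo : ∀ b : Fin k → F, h.L (fun i => lo (b i)) w = w := by
    intro b
    choose X Y hXY using fun i => lo_comm h0 h1 (b i)
    have e1 : (fun i => lo (b i)) = X * Y * X⁻¹ * Y⁻¹ := by
      funext i
      exact hXY i
    rw [e1]; exact hcomm X Y
  choose a b c d hA using fun i => exists_up_lo (A i)
  have e1 : A = (fun i => up (a i)) * (fun i => lo (b i)) * (fun i => up (c i)) * fun i => lo (d i) := by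
    funext i
    exact hA i
  rw [e1, map_mul, map_mul, map_mul]
  change h.L _ (h.L _ (h.L _ (h.L _ w))) = w
  rw [hlo, hup, hlo, hup]

/-- the kernel of `e` as an additive group -/
theorem L_one_block [CharP F 2] (hν : ∃ ν : F, ν ≠ 0 ∧ ν ≠ 1) (i : Fin k) (A : Matrix.SpecialLinearGroup (Fin 2) F)
    {w : W} (hw : e w i = 0) : h.L (Pi.mulSingle i A) w = w := by
  classical
  have hν' := hν
  obtain ⟨ν, h0, h1⟩ := hν
  have hC : ∀ A, ∀ c ∈ e.ker, h.L A c = c := fun A c hc => h.tr0 hν' A (AddMonoidHom.mem_ker.1 hc)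
  have hm : ∀ A, h.L (Pi.mulSingle i A) w + w ∈ e.ker := by
    intro A
    rw [AddMonoidHom.mem_ker, map_add]
    funext j
    rw [Pi.add_apply, h.L_e]
    by_cases hj : j = i
    · subst hj
      rw [hw]
      simp only [Pi.mulSingle_eq_same, Pi.zero_apply, add_zero]
      apply ext2
      · rw [ap_zero']; simp
      · rw [ap_one']; simp
    · rw [Pi.mulSingle_eq_of_ne hj, ap_one]
      funext x
      rw [Pi.add_apply]
      exact CharTwo.add_self_eq_zero _
  have hcomm : ∀ X Y : Matrix.SpecialLinearGroup (Fin 2) F, h.L (Pi.mulSingle i (X * Y * X⁻¹ * Y⁻¹)) w = w := by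
    intro X Y
    rw [Pi.mulSingle_mul, Pi.mulSingle_mul, Pi.mulSingle_mul, Pi.mulSingle_inv, Pi.mulSingle_inv, map_mul, map_mul,
      map_mul, map_inv, map_inv]
    exact comm_fix (hC _) (hC _) (hm X) (hm Y)
  have hup : ∀ b : F, h.L (Pi.mulSingle i (up b)) w = w := fun b => by
    rw [up_comm h0 h1 b]; exact hcomm _ _
  have hlo : ∀ b : F, h.L (Pi.mulSingle i (lo b)) w = w := fun b => by
    obtain ⟨X, Y, hXY⟩ := lo_comm h0 h1 b
    rw [hXY]; exact hcomm _ _
  obtain ⟨a, b, c, d, rfl⟩ := exists_up_lo A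
  rw [Pi.mulSingle_mul, Pi.mulSingle_mul, Pi.mulSingle_mul, map_mul, map_mul, map_mul]
  change h.L _ (h.L _ (h.L _ (h.L _ w))) = w
  rw [hlo, hup, hlo, hup]

/-- the `i`-th factor -/
noncomputable def l (i : Fin k) : Matrix.SpecialLinearGroup (Fin 2) F →* (W ≃ₗ[ZMod 2] W) :=
  h.L.comp (MonoidHom.mulSingle (fun _ => Matrix.SpecialLinearGroup (Fin 2) F) i)

theorem l_apply (i : Fin k) (A : Matrix.SpecialLinearGroup (Fin 2) F) : h.l i A = h.L (Pi.mulSingle i A) := rfl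

theorem sl [CharP F 2] (hν : ∃ ν : F, ν ≠ 0 ∧ ν ≠ 1) (i : Fin k) :
    Sl (h.l i) ((Pi.evalAddMonoidHom (fun _ : Fin k => Fin 2 → F) i).comp e) where
  act := by
    intro A w
    change e (h.L (Pi.mulSingle i A) w) i = ap A (e w i)
    rw [h.L_e, Pi.mulSingle_eq_same]
  tr := fun A w hw => h.L_one_block hν i A hw
  sur := by
    intro x
    obtain ⟨w, hw⟩ := h.surj fun _ => x
    exact ⟨w, by change e w i = x; rw [hw]⟩

end NatW

end Cfsg.Agent.Omega.FOne.Act
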