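import Cfsg.Agent.Omega.FOne.Act.Nat

/-!
# (F1'), the minimal parabolic case: the natural case is impossible
-/

set_option autoImplicit false
set_option linter.unusedSectionVars false

namespace Cfsg.Agent.Omega.FOne.Act

open Subgroup
open Cfsg.Agent.Lib.SL2Mat Cfsg.Agent.Omega.NatPair
open Cfsg.Agent.Omega.FOne.Tvw (Base addself z2 eq_of_add_eq_zero' ap_inv inv_ap)
open Cfsg.Agent.Omega.FOne.AT

/-- `T ∩ N` is a Sylow 2-subgroup of the normal subgroup `N`. -/
theorem not_dvd_inf {G : Type*} [Group G] [Finite G] {H T N : Subgroup G} (hTH : T ≤ H) (hTS : ¬ 2 ∣ T.relIndex H)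
    (hNH : N ≤ H) (hN : H ≤ normalizer (N : Set G)) : ¬ 2 ∣ (T ⊓ N).relIndex N := by
  rw [inf_comm]
  have hn : (N.subgroupOf H).Normal := normal_subgroupOf_of_le_normalizer hN
  have h1 : N.relIndex (N ⊔ T) = N.relIndex T := by
    have h := Subgroup.relIndex_sup_left (K := N.subgroupOf H) (H := T.subgroupOf H)
    rw [← Subgroup.subgroupOf_sup hNH hTH, Subgroup.relIndex_subgroupOf (sup_le hNH hTH),
      Subgroup.relIndex_subgroupOf hTH] at h
    exact h
  have h2 := Subgroup.relIndex_mul_relIndex (N ⊓ T) N (N ⊔ T) inf_le_left le_sup_left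
  have h3 := Subgroup.relIndex_mul_relIndex (N ⊓ T) T (N ⊔ T) inf_le_right le_sup_right
  have h4 : (N ⊓ T).relIndex T = N.relIndex T := Subgroup.inf_relIndex_right N T
  rw [h1] at h2
  rw [h4, ← h2, mul_comm] at h3
  have h5 : T.relIndex (N ⊔ T) = (N ⊓ T).relIndex N :=
    Nat.eq_of_mul_eq_mul_right (Nat.pos_of_ne_zero (Subgroup.index_ne_zero_of_finite
      (H := N.subgroupOf T))) h3
  intro h
  have h6 := Subgroup.relIndex_mul_relIndex T (N ⊔ T) H le_sup_right (sup_le hNH hTH)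
  exact hTS (h6 ▸ (h5 ▸ h : 2 ∣ T.relIndex (N ⊔ T)).mul_right _)

theorem normalizer_of {G : Type*} [Group G] {H N : Subgroup G} (h : ∀ g ∈ H, ∀ n ∈ N, g * n * g⁻¹ ∈ N) :
    H ≤ normalizer (N : Set G) := by
  intro g hg
  rw [mem_normalizer_iff]
  intro n
  constructor
  · exact h g hg n
  · intro hn
    have := h g⁻¹ (H.inv_mem hg) _ hn
    have e1 : g⁻¹ * (g * n * g⁻¹) * g⁻¹⁻¹ = n := by group
    rwa [e1] at this

section field

variable {F : Type*} [Field F]

theorem one_of_pow [CharP F 2] : ∀ (k : ℕ) (a : F), a ^ 2 ^ k = 1 → a = 1 := by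
  intro k
  induction k with
  | zero => intro a ha; simpa using ha
  | succ k ih =>
    intro a ha
    have h6 : (a ^ 2 ^ k + 1) * (a ^ 2 ^ k + 1) = 0 := by
      have h7 : a ^ 2 ^ (k + 1) = a ^ 2 ^ k * a ^ 2 ^ k := by rw [pow_succ, pow_mul, sq]
      have h8 := CharTwo.add_self_eq_zero (a ^ 2 ^ k)
      have h9 := CharTwo.add_self_eq_zero (1 : F)
      rw [h7] at ha
      linear_combination ha + h8 + h9
    exact ih a (CharTwo.add_eq_zero.1 (mul_self_eq_zero.1 h6))

theorem ent_pow {A : Matrix.SpecialLinearGroup (Fin 2) F} (h : ent A 1 0 = 0) :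
    ∀ n : ℕ, ent (A ^ n) 0 0 = ent A 0 0 ^ n ∧ ent (A ^ n) 1 0 = 0 := by
  intro n
  induction n with
  | zero => exact ⟨by rw [pow_zero, pow_zero]; rfl, by rw [pow_zero]; rfl⟩
  | succ n ih =>
    rw [pow_succ, ent_mul, ent_mul, ih.1, ih.2, h]
    constructor
    · rw [mul_zero, add_zero, pow_succ]
    · ring

/-- a 2-element preserving the line is upper unitriangular -/
theorem eq_up [CharP F 2] {A : Matrix.SpecialLinearGroup (Fin 2) F} (h : ent A 1 0 = 0) {n : ℕ}
    (hn : A ^ 2 ^ n = 1) : A = up (ent A 0 1) := by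
  have h1 := (ent_pow h (2 ^ n)).1
  rw [hn, ent_one_00] at h1
  have h2 := one_of_pow n _ h1.symm
  have h3 := det_eq A
  rw [h, h2] at h3
  refine ext_ent ?_ ?_ ?_ ?_
  · rw [up_00, h2]
  · rw [up_01]
  · rw [up_10, h]
  · rw [up_11]; linear_combination h3

end field

variable {W : Type*} [AddCommGroup W] [Module (ZMod 2) W] {F : Type*} [Field F] {k : ℕ}

namespace NatW

variable {H : Subgroup (W ≃ₗ[ZMod 2] W)} {y : W} {T : Subgroup (W ≃ₗ[ZMod 2] W)} {e : W →+ (Fin k → Fin 2 → F)}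
variable (h : NatW H y T e)
include h

/-- `|F| > 2` -/
theorem false_big [Finite W] [Fintype F] [DecidableEq F] [CharP F 2] (hν : ∃ ν : F, ν ≠ 0 ∧ ν ≠ 1) (hk : 0 < k)
    (two : IsPGroup 2 T) (syl : ¬ 2 ∣ T.relIndex H) (fix : ∀ w, (∀ t ∈ T, t w = w) → w = 0 ∨ w = y) {θ : W}
    (Tθ : ∀ t ∈ T, t θ + θ ∈ Yy y)
    (gen : ∀ U : Submodule (ZMod 2) W, y ∈ U → (∀ x ∈ H, x θ ∈ U) → U = ⊤) : False := by
  classical
  have hfin : Finite (W ≃ₗ[ZMod 2] W) := DFunLike.finite _
  set K : Subgroup (W ≃ₗ[ZMod 2] W) := h.L.range with hKd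
  have hKH : K ≤ H := by
    rintro _ ⟨A, rfl⟩
    exact h.L_mem A
  have hKn : ∀ g ∈ H, ∀ x ∈ K, g * x * g⁻¹ ∈ K := by
    rintro g hg _ ⟨A, rfl⟩
    obtain ⟨B, hB⟩ := h.conj_L hg A
    exact ⟨B, hB.symm⟩
  have hodd := not_dvd_inf h.TH syl hKH (normalizer_of hKn)
  have eT : ∀ t ∈ T, e (t θ) = e θ := fun t ht => by
    have h1 := h.toEk.e_Yy (Tθ t ht)
    rw [map_add] at h1
    funext i x
    have h2 := congrFun (congrFun h1 i) x
    exact CharTwo.add_eq_zero.1 h2
  -- `θ` is on the lines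
  have hθ1 : ∀ i, e θ i 1 = 0 := by
    intro i
    obtain ⟨t, ht, h1, -⟩ := h.unip fun _ => 1
    have h2 := h1 θ i
    rw [eT t ht] at h2
    have h3 := congrFun h2 0
    rw [ap_zero', up_00, up_01] at h3
    linear_combination -h3
  -- the upper unitriangular elements fix `θ`
  have hU : ∀ b : Fin k → F, h.L (fun i => up (b i)) θ = θ := by
    intro b
    let S : Subgroup (Fin k → Matrix.SpecialLinearGroup (Fin 2) F) :=
      (MulAction.stabilizer (W ≃ₗ[ZMod 2] W) θ).comap h.L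
    have hS : ∀ A, A ∈ S ↔ h.L A θ = θ := fun A => Iff.rfl
    rw [← hS]
    refine Subgroup.pi_mem_of_mulSingle_mem _ fun i => ?_
    rw [hS]
    have h1 := (h.sl hν i).up_ap hν (b i) θ
    change h.L (Pi.mulSingle i (up (b i))) θ = _ at h1
    rw [h1]
    have e1 : ((Pi.evalAddMonoidHom (fun _ : Fin k => Fin 2 → F) i).comp e) θ 1 = 0 := hθ1 i
    rw [e1]
    have e2 : (![b i * 0, 0] : Fin 2 → F) = 0 := by
      apply ext2
      · simp
      · simp
    rw [e2, map_zero, add_zero]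
    have e3 : b i * (0 : F) ^ 2 = 0 := by ring
    rw [e3, map_zero, add_zero]
  have hTK : ∀ t ∈ T ⊓ K, t • θ = θ := by
    rintro _ ⟨htT, A, rfl⟩
    -- `A i` preserves the line
    have hA : ∀ i, ent (A i) 1 0 = 0 := by
      intro i
      obtain ⟨σ, hσ⟩ := h.line _ htT
      obtain ⟨w, hw⟩ := h.surj fun _ => ![1, 0]
      obtain ⟨j, rfl⟩ := σ.surjective i
      have h1 := (hσ w j).2 (by rw [hw]; rfl)
      rw [h.L_e, ap_one', hw] at h1
      simpa using h1
    obtain ⟨n, hn⟩ := two ⟨_, htT⟩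
    have hn' : h.L (A ^ 2 ^ n) = h.L 1 := by
      rw [map_pow, map_one]
      exact congrArg Subtype.val hn
    have hAn := h.L_inj hn'
    have e1 : A = fun i => up (ent (A i) 0 1) := by
      funext i
      exact eq_up (hA i) (by
        have := congrFun hAn i
        rwa [Pi.pow_apply] at this)
    rw [e1]
    exact hU _
  have hfix : ∀ w : W, (∀ t ∈ T, t • w = w) → ∀ x ∈ K, x • w = w := by
    intro w hw x hx
    rcases fix w hw with rfl | rfl
    · exact map_zero x
    · exact h.base.fix x (hKH hx)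
  have hfin := Tools.OddFix.odd_fix (G := W ≃ₗ[ZMod 2] W) (W := W) addself two
    (fun t ht x hx => hKn t (h.TH ht) x hx) hodd hfix θ hTK
  have heθ : e θ = 0 := by
    funext i
    have h1 := hfin (h.L fun _ => lo 1) ⟨_, rfl⟩
    change h.L (fun _ => lo 1) θ = θ at h1
    have h2 := h.L_e (fun _ => lo 1) θ i
    rw [h1] at h2
    have h3 := congrFun h2 1
    rw [ap_one', lo_10, lo_11] at h3
    apply ext2
    · change e θ i 0 = 0
      linear_combination -h3
    · exact hθ1 i
  -- contradiction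
  let U : Submodule (ZMod 2) W :=
    { carrier := {w | e w = 0}
      zero_mem' := map_zero e
      add_mem' := by
        intro a b ha hb
        change e (a + b) = 0
        change e a = 0 at ha
        change e b = 0 at hb
        rw [map_add, ha, hb, add_zero]
      smul_mem' := by
        intro c w hw
        rcases z2 c with rfl | rfl
        · rw [zero_smul]; exact map_zero e
        · rw [one_smul]; exact hw }
  have hUt := gen U h.ey fun x hx => h.kinv x hx θ heθ
  obtain ⟨w, hw⟩ := h.surj fun _ => ![1, 0]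
  have h4 : w ∈ U := by rw [hUt]; exact Submodule.mem_top
  have h5 : e w = 0 := h4
  rw [hw] at h5
  have h6 := congrFun (congrFun h5 ⟨0, hk⟩) 0
  exact one_ne_zero h6

end NatW

end Cfsg.Agent.Omega.FOne.Act
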