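import Cfsg.Agent.Omega.FOne.Act.NatEnd

/-!
# (F1'), the minimal parabolic case: the natural case with `|F| = 2` is impossible
-/

set_option autoImplicit false
set_option linter.unusedSectionVars false

namespace Cfsg.Agent.Omega.FOne.Act

open Subgroup
open Cfsg.Agent.Lib.SL2Mat Cfsg.Agent.Omega.NatPair
open Cfsg.Agent.Omega.FOne.Tvw (Base addself z2 eq_of_add_eq_zero' ap_inv inv_ap)
open Cfsg.Agent.Omega.FOne.AT

section field

variable {F : Type*} [Field F] [CharP F 2]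

/-- the element of order 3 -/
def c3 (F : Type*) [Field F] : Matrix.SpecialLinearGroup (Fin 2) F := up 1 * lo 1

theorem ent_c3 : ent (c3 F) 0 0 = 0 ∧ ent (c3 F) 0 1 = 1 ∧ ent (c3 F) 1 0 = 1 ∧ ent (c3 F) 1 1 = 1 := by
  have h2 : (1 : F) + 1 = 0 := CharTwo.add_self_eq_zero 1
  refine ⟨?_, ?_, ?_, ?_⟩ <;> rw [c3, ent_mul] <;> simp [h2]

theorem ent_c32 : ent (c3 F * c3 F) 0 0 = 1 ∧ ent (c3 F * c3 F) 0 1 = 1 ∧ ent (c3 F * c3 F) 1 0 = 1 ∧
    ent (c3 F * c3 F) 1 1 = 0 := by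
  have h2 : (1 : F) + 1 = 0 := CharTwo.add_self_eq_zero 1
  obtain ⟨h00, h01, h10, h11⟩ := ent_c3 (F := F)
  refine ⟨?_, ?_, ?_, ?_⟩ <;> rw [ent_mul] <;> simp only [h00, h01, h10, h11] <;> simp [h2]

theorem c3_cube : c3 F * c3 F * c3 F = 1 := by
  have h2 : (1 : F) + 1 = 0 := CharTwo.add_self_eq_zero 1
  obtain ⟨h00, h01, h10, h11⟩ := ent_c3 (F := F)
  obtain ⟨k00, k01, k10, k11⟩ := ent_c32 (F := F)
  refine ext_ent ?_ ?_ ?_ ?_
  · rw [ent_mul, k00, k01, h00, h10, ent_one_00]; simp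
  · rw [ent_mul, k00, k01, h01, h11, ent_one_01]; simp [h2]
  · rw [ent_mul, k10, k11, h00, h10, ent_one_10]; simp
  · rw [ent_mul, k10, k11, h01, h11, ent_one_11]; simp

theorem cube_mem (hF : ∀ x : F, x = 0 ∨ x = 1) {x : Matrix.SpecialLinearGroup (Fin 2) F} (hx : x * x * x = 1) :
    x ∈ zpowers (c3 F) := by
  have h2 : (1 : F) + 1 = 0 := CharTwo.add_self_eq_zero 1
  have hne : (0 : F) ≠ 1 := zero_ne_one
  have hd := det_eq x
  obtain ⟨h00, h01, h10, h11⟩ := ent_c3 (F := F)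
  obtain ⟨k00, k01, k10, k11⟩ := ent_c32 (F := F)
  have m0 : (1 : Matrix.SpecialLinearGroup (Fin 2) F) ∈ zpowers (c3 F) := one_mem _
  have m1 : c3 F ∈ zpowers (c3 F) := mem_zpowers _
  have m2 : c3 F * c3 F ∈ zpowers (c3 F) := mul_mem m1 m1
  -- involutions
  have hinv : x * x = 1 → x ∈ zpowers (c3 F) := by
    intro h
    rw [h, one_mul] at hx
    rw [hx]; exact m0
  have neg1 : (-1 : F) = 1 := by linear_combination -h2
  have e1 : ent x 0 0 = 0 → ent x 0 1 = 1 → ent x 1 0 = 1 → ent x 1 1 = 1 → x ∈ zpowers (c3 F) := by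
    intro a0 b0 c0 d0
    have : x = c3 F := ext_ent (a0.trans h00.symm) (b0.trans h01.symm) (c0.trans h10.symm) (d0.trans h11.symm)
    rw [this]; exact m1
  have e2 : ent x 0 0 = 1 → ent x 0 1 = 1 → ent x 1 0 = 1 → ent x 1 1 = 0 → x ∈ zpowers (c3 F) := by
    intro a0 b0 c0 d0
    have : x = c3 F * c3 F := ext_ent (a0.trans k00.symm) (b0.trans k01.symm) (c0.trans k10.symm) (d0.trans k11.symm)
    rw [this]; exact m2
  have e3 : ent x 0 0 * ent x 0 0 + ent x 0 1 * ent x 1 0 = 1 → ent x 0 0 * ent x 0 1 + ent x 0 1 * ent x 1 1 = 0 →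
      ent x 1 0 * ent x 0 0 + ent x 1 1 * ent x 1 0 = 0 → ent x 1 0 * ent x 0 1 + ent x 1 1 * ent x 1 1 = 1 →
      x ∈ zpowers (c3 F) := by
    intro a0 b0 c0 d0
    refine hinv (ext_ent ?_ ?_ ?_ ?_)
    · rw [ent_mul, a0, ent_one_00]
    · rw [ent_mul, b0, ent_one_01]
    · rw [ent_mul, c0, ent_one_10]
    · rw [ent_mul, d0, ent_one_11]
  rcases hF (ent x 0 0) with a0 | a0 <;> rcases hF (ent x 0 1) with b0 | b0 <;>
    rcases hF (ent x 1 0) with c0 | c0 <;> rcases hF (ent x 1 1) with d0 | d0 <;>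
    rw [a0, b0, c0, d0] at hd e3 <;>
    simp [h2, neg1] at hd e3 <;>
    first
    | exact e3
    | exact e1 a0 b0 c0 d0
    | exact e2 a0 b0 c0 d0

theorem cube_of_mem {x : Matrix.SpecialLinearGroup (Fin 2) F} (hx : x ∈ zpowers (c3 F)) : x ^ 3 = 1 := by
  obtain ⟨n, rfl⟩ := mem_zpowers_iff.1 hx
  rw [← zpow_natCast, ← zpow_mul, mul_comm, zpow_mul]
  have : (c3 F) ^ ((3 : ℕ) : ℤ) = 1 := by
    rw [zpow_natCast, pow_succ, pow_two]; exact c3_cube
  rw [this, one_zpow]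

end field

variable {W : Type*} [AddCommGroup W] [Module (ZMod 2) W] {F : Type*} [Field F] {k : ℕ}

namespace NatW

variable {H : Subgroup (W ≃ₗ[ZMod 2] W)} {y : W} {T : Subgroup (W ≃ₗ[ZMod 2] W)} {e : W →+ (Fin k → Fin 2 → F)}
variable (h : NatW H y T e)
include h

/-- `|F| = 2` -/
theorem false_two [Finite W] [CharP F 2] (hF : ∀ x : F, x = 0 ∨ x = 1) (hk : 0 < k)
    (two : IsPGroup 2 T) (fix : ∀ w, (∀ t ∈ T, t w = w) → w = 0 ∨ w = y) : False := by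
  classical
  have hfin : Finite (W ≃ₗ[ZMod 2] W) := DFunLike.finite _
  set K : Subgroup (W ≃ₗ[ZMod 2] W) :=
    (Subgroup.pi Set.univ (fun _ : Fin k => zpowers (c3 F))).map h.L with hKd
  have hKH : K ≤ H := by
    rintro _ ⟨A, -, rfl⟩
    exact h.L_mem A
  have hcube : ∀ x ∈ K, x ^ 3 = 1 := by
    rintro _ ⟨A, hA, rfl⟩
    rw [← map_pow]
    have : A ^ 3 = 1 := by
      funext i
      rw [Pi.pow_apply]
      exact cube_of_mem (hA i (Set.mem_univ i))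
    rw [this, map_one]
  have hKn : ∀ g ∈ H, ∀ x ∈ K, g * x * g⁻¹ ∈ K := by
    rintro g hg x hx
    have h3 := hcube x hx
    obtain ⟨A, hA, rfl⟩ := hx
    obtain ⟨B, hB⟩ := h.conj_L hg A
    refine ⟨B, fun i _ => ?_, hB.symm⟩
    have h4 : (g * h.L A * g⁻¹) ^ 3 = 1 := by
      rw [conj_pow, h3, mul_one, mul_inv_cancel]
    rw [hB, ← map_pow, ← map_one h.L] at h4
    have h5 := congrFun (h.L_inj h4) i
    rw [Pi.pow_apply, Pi.one_apply, pow_succ, pow_two] at h5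
    exact cube_mem hF h5
  have hK3 : IsPGroup 3 K := fun x => ⟨1, Subtype.ext (by
    change (x : W ≃ₗ[ZMod 2] W) ^ 3 ^ 1 = 1
    rw [pow_one]; exact hcube x x.2)⟩
  have hodd : ¬ 2 ∣ (T ⊓ K).relIndex K := by
    intro h2
    obtain ⟨n, hn⟩ := IsPGroup.iff_card.1 hK3
    have h3 : (T ⊓ K).relIndex K ∣ Nat.card K := Subgroup.relIndex_dvd_card _ _
    rw [hn] at h3
    have h4 := Nat.Prime.dvd_of_dvd_pow Nat.prime_two (h2.trans h3)
    omega
  have hTK : ∀ w : W, ∀ t ∈ T ⊓ K, t • w = w := by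
    rintro w t ⟨htT, htK⟩
    obtain ⟨n, hn⟩ := two ⟨t, htT⟩
    have h2 : t ^ 2 ^ n = 1 := congrArg Subtype.val hn
    have h3 := hcube t htK
    have h4 : orderOf t ∣ 2 ^ n := orderOf_dvd_of_pow_eq_one h2
    have h5 : orderOf t ∣ 3 := orderOf_dvd_of_pow_eq_one h3
    have h6 : orderOf t ∣ Nat.gcd (2 ^ n) 3 := Nat.dvd_gcd h4 h5
    have h7 : Nat.gcd (2 ^ n) 3 = 1 := Nat.Coprime.pow_left n (by norm_num)
    rw [h7, Nat.dvd_one, orderOf_eq_one_iff] at h6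
    rw [h6]
    rfl
  have hfix : ∀ w : W, (∀ t ∈ T, t • w = w) → ∀ x ∈ K, x • w = w := by
    intro w hw x hx
    rcases fix w hw with rfl | rfl
    · exact map_zero x
    · exact h.base.fix x (hKH hx)
  obtain ⟨w, hw⟩ := h.surj fun _ => ![1, 0]
  have h1 := Tools.OddFix.odd_fix (G := W ≃ₗ[ZMod 2] W) (W := W) addself two
    (fun t ht x hx => hKn t (h.TH ht) x hx) hodd hfix w (hTK w) (h.L fun _ => c3 F)
    ⟨_, fun i _ => mem_zpowers _, rfl⟩
  change h.L (fun _ => c3 F) w = w at h1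
  have h2 := h.L_e (fun _ => c3 F) w ⟨0, hk⟩
  rw [h1, hw] at h2
  have h3 := congrFun h2 0
  rw [ap_zero', ent_c3.1, ent_c3.2.1] at h3
  simp at h3

end NatW

end Cfsg.Agent.Omega.FOne.Act
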