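import Cfsg.Agent.Omega.FOne.Act.Sym
import Cfsg.Agent.Omega.FOne.Act.NatTwo
import Cfsg.Agent.Omega.FFBr.Def

/-!
# (F1'), the minimal parabolic case: the FF theorem for `W / y`
-/

set_option autoImplicit false
set_option linter.unusedSectionVars false

namespace Cfsg.Agent.Omega.FOne.Act

open Subgroup
open Cfsg.Agent.Lib.SL2Mat Cfsg.Agent.Omega.NatPair Cfsg.Agent.Omega.FFBr
open Cfsg.Agent.Omega.FOne.Tvw (Base addself z2 eq_of_add_eq_zero' ap_inv inv_ap)
open Cfsg.Agent.Omega.FOne.AT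
open Cfsg.Agent.Omega.FOne.NOv (cm MEx MAtom)

universe u

variable {W : Type u} [AddCommGroup W] [Module (ZMod 2) W]

/-- `W / y`, written multiplicatively -/
abbrev MV (y : W) : Type u := Multiplicative (W ⧸ Yy y)

/-- the projection -/
def mk (y w : W) : MV y := Multiplicative.ofAdd (QuotientAddGroup.mk w)

theorem mk_add (y a b : W) : mk y (a + b) = mk y a * mk y b := rfl

theorem mk_surj {y : W} (v : MV y) : ∃ w, mk y w = v := by
  obtain ⟨w, hw⟩ := QuotientAddGroup.mk_surjective (Multiplicative.toAdd v)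
  exact ⟨w, congrArg Multiplicative.ofAdd hw⟩

theorem mk_eq {y a b : W} : mk y a = mk y b ↔ a + b ∈ Yy y := by
  have h1 : mk y a = mk y b ↔ (QuotientAddGroup.mk a : W ⧸ Yy y) = QuotientAddGroup.mk b := Iff.rfl
  rw [h1, QuotientAddGroup.eq]
  have h2 : -a = a := neg_eq_of_add_eq_zero_left (addself a)
  rw [h2]

theorem mk_one {y a : W} : mk y a = 1 ↔ a ∈ Yy y := by
  have h1 : (1 : MV y) = mk y 0 := rfl
  rw [h1, mk_eq, add_zero]

variable {H : Subgroup (W ≃ₗ[ZMod 2] W)} {y : W}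

theorem map_le (hf : ∀ h ∈ H, h y = y) (h : H) :
    Yy y ≤ (Yy y).comap (lin (h : W ≃ₗ[ZMod 2] W)) := by
  intro a ha
  rw [AddSubgroup.mem_comap]
  rcases ha with rfl | rfl
  · rw [map_zero]; exact (Yy y).zero_mem
  · change (h : W ≃ₗ[ZMod 2] W) a ∈ Yy a
    rw [hf h h.2]; exact y_mem a

/-- `H` acts on `W / y` -/
@[reducible] def act (hf : ∀ h ∈ H, h y = y) : MulDistribMulAction H (MV y) where
  smul h v := Multiplicative.ofAdd (QuotientAddGroup.map (Yy y) (Yy y) (lin (h : W ≃ₗ[ZMod 2] W)) (map_le hf h)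
    (Multiplicative.toAdd v))
  one_smul v := by
    obtain ⟨w, rfl⟩ := mk_surj v
    rfl
  mul_smul g h v := by
    obtain ⟨w, rfl⟩ := mk_surj v
    rfl
  smul_mul g v w := by
    change Multiplicative.ofAdd (QuotientAddGroup.map (Yy y) (Yy y) (lin (g : W ≃ₗ[ZMod 2] W)) (map_le hf g)
      (Multiplicative.toAdd v + Multiplicative.toAdd w)) = _
    rw [map_add]
    rfl
  smul_one g := by
    change Multiplicative.ofAdd (QuotientAddGroup.map (Yy y) (Yy y) (lin (g : W ≃ₗ[ZMod 2] W)) (map_le hf g) 0) = _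
    rw [map_zero]
    rfl

/-- an action of `H` on `W / y` which is the natural one -/
structure IsA (H : Subgroup (W ≃ₗ[ZMod 2] W)) (y : W) [MulDistribMulAction H (MV y)] : Prop where
  smul : ∀ (h : H) (w : W), h • mk y w = mk y ((h : W ≃ₗ[ZMod 2] W) w)

theorem isA_act (hf : ∀ h ∈ H, h y = y) : @IsA W _ _ H y (act hf) := @IsA.mk W _ _ H y (act hf) fun _ _ => rfl

/-- the functional of `V` as a functional of `W` -/
def pull {E : Type*} [AddCommGroup E] (e : MV y → E) (he : ∀ v w, e (v * w) = e v + e w) : W →+ E :=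
  AddMonoidHom.mk' (fun w => e (mk y w)) fun a b => by rw [mk_add, he]

section

variable [MulDistribMulAction H (MV y)]

theorem kinv_odd (h : H) {v : MV y} (hv : v ∈ odd H (MV y)) : h • v ∈ odd H (MV y) := by
  intro x hx
  have h1 : (h⁻¹ * x * h) • v = v := hv _ (by
    have : orderOf (h⁻¹ * x * h) = orderOf x := by
      have e1 : (MulAut.conj h⁻¹) x = h⁻¹ * x * h := by simp
      rw [← e1]
      exact MulEquiv.orderOf_eq _ x
    rw [this]; exact hx)
  have h2 := congrArg (fun z => h • z) h1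
  simp only [smul_smul] at h2
  rw [smul_smul]
  have e2 : h * (h⁻¹ * x * h) = x * h := by group
  rw [e2] at h2
  exact h2

variable (hA : IsA H y)
include hA

theorem ek_pull (b : Base H y) {E : Type*} [AddCommGroup E] {e : MV y → E} (he : ∀ v w, e (v * w) = e v + e w)
    (hker : ∀ v, e v = 0 ↔ v ∈ odd H (MV y)) : Ek H y (pull e he) where
  base := b
  ey := by
    change e (mk y y) = 0
    have h1 : mk y y = 1 := mk_one.2 (y_mem y)
    rw [h1, hker]
    exact (odd H (MV y)).one_mem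
  kinv := by
    intro h hh w hw
    change e (mk y (h w)) = 0
    change e (mk y w) = 0 at hw
    rw [hker] at hw ⊢
    have h1 := kinv_odd ⟨h, hh⟩ hw
    rw [hA.smul] at h1
    exact h1

theorem tr_of (b : Base H y) {E : Type*} [AddCommGroup E] {e : MV y → E} (he : ∀ v w, e (v * w) = e v + e w)
    (hker : ∀ v, e v = 0 ↔ v ∈ odd H (MV y)) {g : H} (hg : ∀ d ∈ odd H (MV y), g • d = d) {w : W}
    (hw : pull e he w = 0) : (g : W ≃ₗ[ZMod 2] W) w + w ∈ Yy y := by
  have h1 := hg (mk y w) ((hker _).1 hw)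
  rw [hA.smul] at h1
  exact mk_eq.1 h1

/-- the natural case -/
theorem natW_of (b : Base H y) {T : Subgroup (W ≃ₗ[ZMod 2] W)} (hTH : T ≤ H) {F : Type} [Field F] {k : ℕ}
    (n : AbsNat F (T.subgroupOf H) (MV y) k) : NatW H y T (pull n.e n.mul) where
  toEk := ek_pull hA b n.mul n.ker
  TH := hTH
  surj := by
    intro x
    obtain ⟨v, hv⟩ := n.surj x
    obtain ⟨w, rfl⟩ := mk_surj v
    exact ⟨w, hv⟩
  lift := by
    intro A
    obtain ⟨g, h1, h2⟩ := n.lift A
    refine ⟨g, g.2, fun w i => ?_, fun w hw => tr_of hA b n.mul n.ker h2 hw⟩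
    have := h1 (mk y w) i
    rw [hA.smul] at this
    exact this
  norm := by
    intro g hg x hx A hA'
    obtain ⟨B, hB⟩ := n.norm ⟨g, hg⟩ ⟨x, hx⟩ A (fun v i => by
      obtain ⟨w, rfl⟩ := mk_surj v
      rw [hA.smul]
      exact hA' w i)
    refine ⟨B, fun w i => ?_⟩
    have := hB (mk y w) i
    rw [hA.smul] at this
    exact this
  line := by
    intro t ht
    obtain ⟨σ, hσ⟩ := n.line ⟨t, hTH ht⟩ ht
    refine ⟨σ, fun w i => ?_⟩
    have := hσ (mk y w) i
    rw [hA.smul] at this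
    exact this
  unip := by
    intro b'
    obtain ⟨t, ht, h1, h2⟩ := n.unip b'
    refine ⟨t, ht, fun w i => ?_, fun w hw => tr_of hA b n.mul n.ker h2 hw⟩
    have := h1 (mk y w) i
    rw [hA.smul] at this
    exact this

/-- the symmetric case -/
theorem symW_of (b : Base H y) {T : Subgroup H} {k m : ℕ} (n : AbsSym T (MV y) k m) :
    SymW H y (pull n.e n.mul) where
  toEk := ek_pull hA b n.mul n.ker
  even := fun w i => n.even (mk y w) i
  surj := by
    intro z hz
    obtain ⟨v, hv⟩ := n.surj z hz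
    obtain ⟨w, rfl⟩ := mk_surj v
    exact ⟨w, hv⟩
  lift := by
    intro τ
    obtain ⟨g, h1, h2⟩ := n.lift τ
    refine ⟨g, g.2, fun w i x => ?_, fun w hw => tr_of hA b n.mul n.ker h2 hw⟩
    have := h1 (mk y w) i x
    rw [hA.smul] at this
    exact this

end

end Cfsg.Agent.Omega.FOne.Act
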