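import Cfsg.Agent.Omega.FOne.Act.NatEnd
import Cfsg.Agent.Omega.FOne.NOv.Def

/-!
# (F1'), the minimal parabolic case: sums of even-subset modules of `S_n`

A transposition lift is a transvection of `W / y`, so an atom has order 2.
-/

set_option autoImplicit false
set_option linter.unusedSectionVars false

namespace Cfsg.Agent.Omega.FOne.Act

open Subgroup
open Cfsg.Agent.Omega.FOne.Tvw (Base addself z2 eq_of_add_eq_zero' ap_inv inv_ap)
open Cfsg.Agent.Omega.FOne.AT
open Cfsg.Agent.Omega.FOne.NOv (cm MEx MAtom)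

variable {W : Type*} [AddCommGroup W] [Module (ZMod 2) W] {k n : ℕ}

/-- the conclusion of the FF theorem in the symmetric case, for `W / y` -/
structure SymW (H : Subgroup (W ≃ₗ[ZMod 2] W)) (y : W) (e : W →+ (Fin k → Fin n → ZMod 2)) : Prop
    extends Ek H y e where
  even : ∀ w i, ∑ x, e w i x = 0
  surj : ∀ z : Fin k → Fin n → ZMod 2, (∀ i, ∑ x, z i x = 0) → ∃ w, e w = z
  lift : ∀ τ : Fin k → Equiv.Perm (Fin n), ∃ g ∈ H, (∀ w i x, e (g w) i (τ i x) = e w i x) ∧
    ∀ w, e w = 0 → g w + w ∈ Yy y

/-- the pair `{u, s}` of the block `j` -/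
def pr (j : Fin k) (u s : Fin n) : Fin k → Fin n → ZMod 2 := Pi.single j (Pi.single u 1 + Pi.single s 1)

theorem pr_sum (j : Fin k) (u s : Fin n) (i : Fin k) : ∑ x, pr j u s i x = 0 := by
  by_cases h : i = j
  · subst h
    have h1 : ∑ x, pr i u s i x = ∑ x, ((Pi.single u 1 : Fin n → ZMod 2) x + (Pi.single s 1 : Fin n → ZMod 2) x) := by
      refine Finset.sum_congr rfl fun x _ => ?_
      rw [pr, Pi.single_eq_same]; rfl
    rw [h1, Finset.sum_add_distrib]
    simp only [Finset.sum_pi_single', Finset.mem_univ, if_true]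
    rfl
  · have h1 : ∀ x, pr j u s i x = 0 := fun x => by
      rw [pr, Pi.single_eq_of_ne h]; rfl
    simp [h1]

namespace SymW

variable {H : Subgroup (W ≃ₗ[ZMod 2] W)} {y : W} {e : W →+ (Fin k → Fin n → ZMod 2)}
variable (h : SymW H y e)

/-- the lift -/
noncomputable def L : (Fin k → Equiv.Perm (Fin n)) →* (W ≃ₗ[ZMod 2] W) :=
  MonoidHom.mk' (fun A => (h.lift A).choose) fun A B => by
    obtain ⟨h1, h2, h3⟩ := (h.lift (A * B)).choose_spec
    obtain ⟨a1, a2, a3⟩ := (h.lift A).choose_spec
    obtain ⟨b1, b2, b3⟩ := (h.lift B).choose_spec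
    refine h.toEk.uniq2 h1 (H.mul_mem a1 b1) (fun w => ?_) h3 fun w hw => ?_
    · funext i x
      change _ = e ((h.lift A).choose ((h.lift B).choose w)) i x
      obtain ⟨z, rfl⟩ := (A i).surjective x
      obtain ⟨x, rfl⟩ := (B i).surjective z
      rw [a2, b2]
      exact h2 w i x
    · change (h.lift A).choose ((h.lift B).choose w) + w ∈ Yy y
      have h4 := b3 w hw
      have h5 := a3 ((h.lift B).choose w) (h.kinv _ b1 w hw)
      have h6 : (h.lift A).choose ((h.lift B).choose w) + w =
          (h.lift A).choose ((h.lift B).choose w) + (h.lift B).choose w + ((h.lift B).choose w + w) := by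
        linear_combination (norm := module) -addself ((h.lift B).choose w)
      rw [h6]
      exact (Yy y).add_mem h5 h4

theorem L_mem (A : Fin k → Equiv.Perm (Fin n)) : h.L A ∈ H := (h.lift A).choose_spec.1

theorem L_e (A : Fin k → Equiv.Perm (Fin n)) (w : W) (i : Fin k) (x : Fin n) :
    e (h.L A w) i (A i x) = e w i x := (h.lift A).choose_spec.2.1 w i x

theorem L_e' (A : Fin k → Equiv.Perm (Fin n)) (w : W) (i : Fin k) (x : Fin n) :
    e (h.L A w) i x = e w i ((A i)⁻¹ x) := by
  have := h.L_e A w i ((A i)⁻¹ x)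
  rwa [show (A i) ((A i)⁻¹ x) = x from (A i).apply_symm_apply x] at this

theorem L_Yy (A : Fin k → Equiv.Perm (Fin n)) {w : W} (hw : e w = 0) : h.L A w + w ∈ Yy y :=
  (h.lift A).choose_spec.2.2 w hw

theorem eq_L {g : W ≃ₗ[ZMod 2] W} (hg : g ∈ H) {A : Fin k → Equiv.Perm (Fin n)}
    (h1 : ∀ w i x, e (g w) i (A i x) = e w i x) (h2 : ∀ w, e w = 0 → g w + w ∈ Yy y) : g = h.L A :=
  h.toEk.uniq2 hg (h.L_mem A) (fun w => by
    funext i x
    obtain ⟨z, rfl⟩ := (A i).surjective x
    rw [h1, L_e]) h2 fun w hw => h.L_Yy A hw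

/-- the transposition `(p q)` of the block `i` -/
noncomputable def tr (i : Fin k) (p q : Fin n) : W ≃ₗ[ZMod 2] W := h.L (Pi.mulSingle i (Equiv.swap p q))

theorem tr_mem (i : Fin k) (p q : Fin n) : h.tr i p q ∈ H := h.L_mem _

theorem tr_e (i : Fin k) (p q : Fin n) (w : W) (x : Fin n) : e (h.tr i p q w) i x = e w i (Equiv.swap p q x) := by
  rw [tr, h.L_e', Pi.mulSingle_eq_same, Equiv.swap_inv]

theorem tr_e_ne {i j : Fin k} (hj : j ≠ i) (p q : Fin n) (w : W) (x : Fin n) : e (h.tr i p q w) j x = e w j x := by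
  rw [tr, h.L_e', Pi.mulSingle_eq_of_ne hj]; rfl

theorem tr_Yy (i : Fin k) (p q : Fin n) {w : W} (hw : e w = 0) : h.tr i p q w + w ∈ Yy y := h.L_Yy _ hw

/-- the fixed space of the transposition, modulo `y` -/
noncomputable def Vf (i : Fin k) (p q : Fin n) : AddSubgroup W where
  carrier := {w | h.tr i p q w + w ∈ Yy y}
  zero_mem' := by
    change h.tr i p q 0 + 0 ∈ Yy y
    rw [map_zero, add_zero]; exact (Yy y).zero_mem
  add_mem' := by
    intro a b ha hb
    change h.tr i p q (a + b) + (a + b) ∈ Yy y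
    have h1 : h.tr i p q (a + b) + (a + b) = (h.tr i p q a + a) + (h.tr i p q b + b) := by
      rw [map_add]; abel
    rw [h1]; exact (Yy y).add_mem ha hb
  neg_mem' := by
    intro a ha
    change h.tr i p q (-a) + -a ∈ Yy y
    have h1 : h.tr i p q (-a) + -a = -(h.tr i p q a + a) := by
      rw [map_neg]; abel
    rw [h1]; exact (Yy y).neg_mem ha

theorem mem_Vf {i : Fin k} {p q : Fin n} {w : W} : w ∈ h.Vf i p q ↔ h.tr i p q w + w ∈ Yy y := Iff.rfl

theorem ker_Vf {i : Fin k} {p q : Fin n} {w : W} (hw : e w = 0) : w ∈ h.Vf i p q := h.tr_Yy i p q hw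

/-- the membership depends on `e w` only -/
theorem Vf_of {i : Fin k} {p q : Fin n} {w w' : W} (hw : e w = e w') (h1 : w ∈ h.Vf i p q) : w' ∈ h.Vf i p q := by
  have h2 : e (w + w') = 0 := by rw [map_add, hw, ← map_add, addself, map_zero]
  have h3 := (h.Vf i p q).add_mem h1 (h.ker_Vf (i := i) (p := p) (q := q) h2)
  have h4 : w + (w + w') = w' := by linear_combination (norm := module) addself w
  rwa [h4] at h3

/-- (c1) -/
theorem comm_Vf {i : Fin k} {p q : Fin n} {A : Fin k → Equiv.Perm (Fin n)}
    (hA : Pi.mulSingle i (Equiv.swap p q) * A = A * Pi.mulSingle i (Equiv.swap p q)) {v : W}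
    (hv : e (h.tr i p q v) = e v) : v + h.L A v ∈ h.Vf i p q := by
  rw [mem_Vf]
  have hd : e (h.tr i p q v + v) = 0 := by rw [map_add, hv, ← map_add, addself, map_zero]
  have h1 : h.tr i p q (h.L A v) = h.L A (h.tr i p q v) := by
    change (h.L _ * h.L A) v = (h.L A * h.L _) v
    rw [← map_mul, hA, map_mul]
  have h2 := h.L_Yy A hd
  rw [map_add] at h2
  rw [map_add, h1]
  have h3 : h.tr i p q v + h.L A (h.tr i p q v) + (v + h.L A v) =
      h.L A (h.tr i p q v) + h.L A v + (h.tr i p q v + v) := by abel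
  rw [h3]; exact h2

/-- (c3) the pair `{p, q}` -/
theorem pq_Vf {i : Fin k} {p q r : Fin n} (hpq : p ≠ q) (hrp : r ≠ p) (hrq : r ≠ q) {v : W}
    (hv : e v = pr i p q) : v ∈ h.Vf i p q := by
  rw [mem_Vf]
  have hb : e (h.tr i p q v) = e v := by
    funext j x
    by_cases hj : j = i
    · subst hj
      rw [h.tr_e, hv, pr, Pi.single_eq_same, Pi.add_apply, Pi.add_apply]
      by_cases hx : x = p
      · subst hx
        rw [Equiv.swap_apply_left, Pi.single_eq_same, Pi.single_eq_same, Pi.single_eq_of_ne hpq,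
          Pi.single_eq_of_ne hpq.symm, add_comm]
      · by_cases hx2 : x = q
        · subst hx2
          rw [Equiv.swap_apply_right, Pi.single_eq_same, Pi.single_eq_same, Pi.single_eq_of_ne hpq,
            Pi.single_eq_of_ne hpq.symm, add_comm]
        · rw [Equiv.swap_apply_of_ne_of_ne hx hx2]
    · rw [h.tr_e_ne hj]
  have hd : e (h.tr i p q v + v) = 0 := by rw [map_add, hb, ← map_add, addself, map_zero]
  obtain ⟨d, hdd⟩ : ∃ d, d = h.tr i p q v + v := ⟨_, rfl⟩
  rw [← hdd] at hd ⊢
  have ebv : h.tr i p q v = v + d := by rw [hdd]; linear_combination (norm := module) -addself v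
  have r1 : ∀ w, h.tr i p q (h.tr i q r w) = h.tr i p r (h.tr i p q w) := by
    intro w
    change (h.L _ * h.L _) w = (h.L _ * h.L _) w
    rw [← map_mul, ← map_mul, ← Pi.mulSingle_mul, ← Pi.mulSingle_mul]
    have : Equiv.swap p q * Equiv.swap q r = Equiv.swap p r * Equiv.swap p q := by
      have h1 := Equiv.swap_mul_swap_mul_swap (x := q) (y := r) (z := p) hrq.symm hpq.symm
      rw [Equiv.swap_comm p q]
      have h2 : Equiv.swap q p * Equiv.swap q r * Equiv.swap q p = Equiv.swap p r := by
        rw [Equiv.swap_comm q r]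
        have := Equiv.mul_swap_eq_swap_mul (Equiv.swap q p) r q
        rw [this, Equiv.swap_apply_left, Equiv.swap_apply_of_ne_of_ne hrq hrp, mul_assoc, Equiv.swap_mul_self, mul_one,
          Equiv.swap_comm]
      rw [← h2, mul_assoc, Equiv.swap_mul_self, mul_one]
    rw [this]
  have r2 : ∀ w, h.tr i p q (h.tr i p r w) = h.tr i q r (h.tr i p q w) := by
    intro w
    change (h.L _ * h.L _) w = (h.L _ * h.L _) w
    rw [← map_mul, ← map_mul, ← Pi.mulSingle_mul, ← Pi.mulSingle_mul]
    have : Equiv.swap p q * Equiv.swap p r = Equiv.swap q r * Equiv.swap p q := by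
      rw [Equiv.mul_swap_eq_swap_mul (Equiv.swap p q) p r, Equiv.swap_apply_left,
        Equiv.swap_apply_of_ne_of_ne hrp hrq]
    rw [this]
  -- the sum of the three pairs
  have hs : e (v + h.tr i q r v + h.tr i p r v) = 0 := by
    funext j x
    rw [map_add, map_add, Pi.add_apply, Pi.add_apply, Pi.add_apply, Pi.add_apply]
    by_cases hj : j = i
    · subst hj
      rw [h.tr_e, h.tr_e, hv, pr, Pi.single_eq_same]
      simp only [Pi.add_apply]
      have key : ∀ a b : Fin n, (Pi.single a 1 : Fin n → ZMod 2) b = if b = a then 1 else 0 := fun a b => by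
        rw [Pi.single_apply]
      simp only [key, Pi.zero_apply]
      by_cases hx : x = p
      · subst hx
        rw [Equiv.swap_apply_left, Equiv.swap_apply_of_ne_of_ne hpq hrp.symm]
        simp [hpq, hrp, hrq]
        decide
      · by_cases hx2 : x = q
        · subst hx2
          rw [Equiv.swap_apply_left, Equiv.swap_apply_of_ne_of_ne hpq.symm hrq.symm]
          simp [hpq.symm, hrp, hrq]
          decide
        · by_cases hx3 : x = r
          · subst hx3
            rw [Equiv.swap_apply_right, Equiv.swap_apply_right]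
            simp [hpq, hpq.symm, hrp, hrq]
            decide
          · rw [Equiv.swap_apply_of_ne_of_ne hx2 hx3, Equiv.swap_apply_of_ne_of_ne hx hx3]
            simp [hx, hx2]
    · rw [h.tr_e_ne hj, h.tr_e_ne hj, hv, pr, Pi.single_eq_of_ne hj]
      rfl
  have h1 := h.tr_Yy i p q hs
  rw [map_add, map_add, r1, r2, ebv, map_add, map_add] at h1
  have h2 := h.tr_Yy i q r hd
  have h3 := h.tr_Yy i p r hd
  have h4 := (Yy y).add_mem ((Yy y).add_mem h1 h2) h3
  have h5 : v + d + (h.tr i p r v + h.tr i p r d) + (h.tr i q r v + h.tr i q r d) + (v + h.tr i q r v + h.tr i p r v) +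
      (h.tr i q r d + d) + (h.tr i p r d + d) = d := by
    linear_combination (norm := module) addself v + addself (h.tr i p r v) + addself (h.tr i q r v) +
      addself (h.tr i p r d) + addself (h.tr i q r d) + addself d
  rwa [h5] at h4

/-- (c2) the pairs away from `{p, q}` -/
theorem pair_Vf (hn : 5 ≤ n) {i j : Fin k} {p q u s : Fin n} (hus : u ≠ s)
    (hj : j = i → (u ≠ p ∧ u ≠ q) ∧ (s ≠ p ∧ s ≠ q)) {w : W} (hw : e w = pr j u s) : w ∈ h.Vf i p q := by
  classical
  -- a third letter
  obtain ⟨r, hr⟩ : ∃ r : Fin n, r ∉ ({u, s, p, q} : Finset (Fin n)) := by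
    by_contra hcon
    push Not at hcon
    have h1 : Fintype.card (Fin n) ≤ ({u, s, p, q} : Finset (Fin n)).card := by
      rw [← Finset.card_univ]
      exact Finset.card_le_card fun x _ => hcon x
    rw [Fintype.card_fin] at h1
    have h2 : ({u, s, p, q} : Finset (Fin n)).card ≤ 4 := Finset.card_le_four
    omega
  simp only [Finset.mem_insert, Finset.mem_singleton, not_or] at hr
  obtain ⟨hru, hrs, hrp, hrq⟩ := hr
  obtain ⟨v, hv⟩ := h.surj (pr j r u) (pr_sum j r u)
  have key : ∀ a b : Fin n, (Pi.single a 1 : Fin n → ZMod 2) b = if b = a then 1 else 0 := fun a b => by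
    rw [Pi.single_apply]
  -- `v` is fixed by `(p q)` modulo the kernel
  have hb : e (h.tr i p q v) = e v := by
    funext j' x
    by_cases hj' : j' = i
    · subst hj'
      rw [h.tr_e, hv]
      by_cases hjj : j' = j
      · subst hjj
        obtain ⟨⟨a1, a2⟩, -⟩ := hj rfl
        rw [pr, Pi.single_eq_same]
        simp only [Pi.add_apply, key]
        by_cases hx : x = p
        · subst hx
          rw [Equiv.swap_apply_left, if_neg (Ne.symm hrq), if_neg a2.symm, if_neg (Ne.symm hrp), if_neg a1.symm]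
        · by_cases hx2 : x = q
          · subst hx2
            rw [Equiv.swap_apply_right, if_neg (Ne.symm hrq), if_neg a2.symm, if_neg (Ne.symm hrp), if_neg a1.symm]
          · rw [Equiv.swap_apply_of_ne_of_ne hx hx2]
      · rw [pr, Pi.single_eq_of_ne hjj]; rfl
    · rw [h.tr_e_ne hj']
  -- `(u s)` of the block `j` commutes with `(p q)` of the block `i`
  have hc : (Pi.mulSingle i (Equiv.swap p q) : Fin k → Equiv.Perm (Fin n)) * Pi.mulSingle j (Equiv.swap u s) =
      Pi.mulSingle j (Equiv.swap u s) * Pi.mulSingle i (Equiv.swap p q) := by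
    by_cases hji : j = i
    · subst hji
      obtain ⟨⟨a1, a2⟩, a3, a4⟩ := hj rfl
      rw [← Pi.mulSingle_mul, ← Pi.mulSingle_mul, Equiv.mul_swap_eq_swap_mul (Equiv.swap p q) u s,
        Equiv.swap_apply_of_ne_of_ne a1 a2, Equiv.swap_apply_of_ne_of_ne a3 a4]
    · funext j'
      rw [Pi.mul_apply, Pi.mul_apply]
      by_cases h1 : j' = i
      · subst h1
        rw [Pi.mulSingle_eq_of_ne (Ne.symm hji), mul_one, one_mul]
      · rw [Pi.mulSingle_eq_of_ne h1, mul_one, one_mul]
  have h1 := h.comm_Vf hc hb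
  refine h.Vf_of ?_ h1
  rw [hw]
  funext j' x
  rw [map_add, Pi.add_apply, Pi.add_apply]
  by_cases hjj : j' = j
  · subst hjj
    have e1 : e (h.L (Pi.mulSingle j' (Equiv.swap u s)) v) j' x = e v j' (Equiv.swap u s x) := h.tr_e j' u s v x
    rw [e1, hv, pr, pr, Pi.single_eq_same, Pi.single_eq_same]
    simp only [Pi.add_apply, key]
    by_cases hx : x = u
    · subst hx
      rw [Equiv.swap_apply_left, if_neg (Ne.symm hru), if_pos rfl, if_neg (Ne.symm hrs), if_neg (Ne.symm hus),
        if_neg hus]
      decide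
    · by_cases hx2 : x = s
      · subst hx2
        rw [Equiv.swap_apply_right, if_neg (Ne.symm hrs), if_neg (Ne.symm hus), if_neg (Ne.symm hru), if_pos rfl,
          if_pos rfl]
        decide
      · rw [Equiv.swap_apply_of_ne_of_ne hx hx2, if_neg hx, if_neg hx2]
        by_cases hx3 : x = r
        · rw [if_pos hx3]; decide
        · rw [if_neg hx3]; decide
  · have e1 : e (h.L (Pi.mulSingle j (Equiv.swap u s)) v) j' x = e v j' x := h.tr_e_ne hjj u s v x
    rw [e1, hv, pr, pr, Pi.single_eq_of_ne hjj, Pi.single_eq_of_ne hjj]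
    rfl

/-- vectors with `e w i p = e w i q = 0` -/
theorem zero_Vf (hn : 5 ≤ n) {i : Fin k} {p q : Fin n} {w : W} (hp : e w i p = 0) (hq : e w i q = 0) :
    w ∈ h.Vf i p q := by
  classical
  obtain ⟨r, hr⟩ : ∃ r : Fin n, r ∉ ({p, q} : Finset (Fin n)) := by
    by_contra hcon
    push Not at hcon
    have h1 : Fintype.card (Fin n) ≤ ({p, q} : Finset (Fin n)).card := by
      rw [← Finset.card_univ]
      exact Finset.card_le_card fun x _ => hcon x
    rw [Fintype.card_fin] at h1
    have h2 : ({p, q} : Finset (Fin n)).card ≤ 2 := Finset.card_le_two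
    omega
  simp only [Finset.mem_insert, Finset.mem_singleton, not_or] at hr
  have key : ∀ a b : Fin n, (Pi.single a 1 : Fin n → ZMod 2) b = if b = a then 1 else 0 := fun a b => by
    rw [Pi.single_apply]
  choose v hv using fun (j : Fin k) (x : Fin n) => h.surj (pr j r x) (pr_sum j r x)
  -- the sum
  have hsum : e w = e (∑ j, ∑ x, e w j x • v j x) := by
    rw [map_sum]
    funext j' x'
    rw [Finset.sum_apply, Finset.sum_apply]
    have e1 : ∀ j, e (∑ x, e w j x • v j x) j' x' = ∑ x, e w j x * pr j r x j' x' := by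
      intro j
      rw [map_sum, Finset.sum_apply, Finset.sum_apply]
      refine Finset.sum_congr rfl fun x _ => ?_
      rcases z2 (e w j x) with h0 | h0
      · rw [h0, zero_smul, map_zero, zero_mul]; rfl
      · rw [h0, one_smul, one_mul, hv]
    simp only [e1]
    rw [Finset.sum_eq_single j']
    · have e2 : ∀ x, e w j' x * pr j' r x j' x' =
          e w j' x * (if x' = r then 1 else 0) + if x = x' then e w j' x' else 0 := by
        intro x
        rw [pr, Pi.single_eq_same]
        simp only [Pi.add_apply, key]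
        by_cases hx : x = x'
        · subst hx; simp [mul_add]
        · rw [if_neg hx, if_neg (Ne.symm hx)]; simp
      simp only [e2]
      rw [Finset.sum_add_distrib, ← Finset.sum_mul, h.even, zero_mul, zero_add, Finset.sum_ite_eq']
      simp
    · intro j _ hj
      refine Finset.sum_eq_zero fun x _ => ?_
      rw [pr, Pi.single_eq_of_ne (Ne.symm hj), Pi.zero_apply, mul_zero]
    · intro hcon; exact absurd (Finset.mem_univ _) hcon
  refine h.Vf_of hsum.symm ?_
  refine AddSubgroup.sum_mem _ fun j _ => AddSubgroup.sum_mem _ fun x _ => ?_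
  rcases z2 (e w j x) with h0 | h0
  · rw [h0, zero_smul]; exact (h.Vf i p q).zero_mem
  · rw [h0, one_smul]
    by_cases hxr : r = x
    · refine h.ker_Vf ?_
      rw [hv, ← hxr, pr]
      funext j' x'
      have e3 : (Pi.single r 1 + Pi.single r 1 : Fin n → ZMod 2) = 0 := by
        funext z; exact CharTwo.add_self_eq_zero _
      rw [e3]
      simp
    · refine h.pair_Vf hn hxr (fun hj => ?_) (hv j x)
      subst hj
      refine ⟨⟨hr.1, hr.2⟩, ?_, ?_⟩
      · rintro rfl
        rw [hp] at h0; exact absurd h0 (by decide)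
      · rintro rfl
        rw [hq] at h0; exact absurd h0 (by decide)

/-- the transposition is a transvection -/
theorem eq_Vf (hn : 5 ≤ n) {i : Fin k} {p q : Fin n} (hpq : p ≠ q) {w : W} (hw : e w i p = e w i q) :
    w ∈ h.Vf i p q := by
  classical
  rcases z2 (e w i p) with h0 | h0
  · exact h.zero_Vf hn h0 (hw ▸ h0)
  · obtain ⟨r, hr⟩ : ∃ r : Fin n, r ∉ ({p, q} : Finset (Fin n)) := by
      by_contra hcon
      push Not at hcon
      have h1 : Fintype.card (Fin n) ≤ ({p, q} : Finset (Fin n)).card := by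
        rw [← Finset.card_univ]
        exact Finset.card_le_card fun x _ => hcon x
      rw [Fintype.card_fin] at h1
      have h2 : ({p, q} : Finset (Fin n)).card ≤ 2 := Finset.card_le_two
      omega
    simp only [Finset.mem_insert, Finset.mem_singleton, not_or] at hr
    obtain ⟨v, hv⟩ := h.surj (pr i p q) (pr_sum i p q)
    have h1 := h.pq_Vf hpq hr.1 hr.2 hv
    have ep : e (w + v) i p = 0 := by
      rw [map_add, Pi.add_apply, Pi.add_apply, h0, hv, pr, Pi.single_eq_same, Pi.add_apply, Pi.single_eq_same,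
        Pi.single_eq_of_ne hpq]
      decide
    have eq : e (w + v) i q = 0 := by
      rw [map_add, Pi.add_apply, Pi.add_apply, ← hw, h0, hv, pr, Pi.single_eq_same, Pi.add_apply, Pi.single_eq_same,
        Pi.single_eq_of_ne hpq.symm]
      decide
    have h2 := (h.Vf i p q).add_mem (h.zero_Vf hn ep eq) h1
    have h3 : w + v + v = w := by linear_combination (norm := module) addself v
    rwa [h3] at h2

theorem tr_sq (i : Fin k) (p q : Fin n) : h.tr i p q * h.tr i p q = 1 := by
  rw [tr, ← map_mul, ← Pi.mulSingle_mul, Equiv.swap_mul_self, Pi.mulSingle_one, map_one]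

/-- `⟨(p q)⟩` is exact -/
theorem ex_tr [Finite W] (hn : 5 ≤ n) (i : Fin k) {p q : Fin n} (hpq : p ≠ q) :
    MEx y (zpowers (h.tr i p q)) ∧ h.tr i p q ≠ 1 := by
  classical
  obtain ⟨r, hr⟩ : ∃ r : Fin n, r ∉ ({p, q} : Finset (Fin n)) := by
    by_contra hcon
    push Not at hcon
    have h1 : Fintype.card (Fin n) ≤ ({p, q} : Finset (Fin n)).card := by
      rw [← Finset.card_univ]
      exact Finset.card_le_card fun x _ => hcon x
    rw [Fintype.card_fin] at h1
    have h2 : ({p, q} : Finset (Fin n)).card ≤ 2 := Finset.card_le_two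
    omega
  simp only [Finset.mem_insert, Finset.mem_singleton, not_or] at hr
  obtain ⟨v, hv⟩ := h.surj (pr i p r) (pr_sum i p r)
  have evp : e v i p = 1 := by
    rw [hv, pr, Pi.single_eq_same, Pi.add_apply, Pi.single_eq_same, Pi.single_eq_of_ne (Ne.symm hr.1)]
    decide
  have evq : e v i q = 0 := by
    rw [hv, pr, Pi.single_eq_same, Pi.add_apply, Pi.single_eq_of_ne hpq.symm, Pi.single_eq_of_ne (Ne.symm hr.2)]
    decide
  have hne : h.tr i p q ≠ 1 := by
    intro h1
    have h2 := h.tr_e i p q v p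
    rw [h1, Equiv.swap_apply_left, evq] at h2
    change e v i p = 0 at h2
    rw [evp] at h2
    exact absurd h2 (by decide)
  refine ⟨?_, hne⟩
  -- the functional
  let f : W →+ ZMod 2 :=
    { toFun := fun w => e w i p + e w i q
      map_zero' := by rw [map_zero]; rfl
      map_add' := by
        intro a b
        rw [map_add]
        simp only [Pi.add_apply]
        ring }
  have hf : ∀ w, f w = e w i p + e w i q := fun w => rfl
  have hsurj : Function.Surjective f := by
    intro c
    rcases z2 c with rfl | rfl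
    · exact ⟨0, map_zero f⟩
    · exact ⟨v, by rw [hf, evp, evq]; decide⟩
  have hker : ∀ w, w ∈ f.ker ↔ w ∈ cm y (zpowers (h.tr i p q)) := by
    intro w
    rw [AddMonoidHom.mem_ker, hf]
    constructor
    · intro h1
      have h2 : e w i p = e w i q := CharTwo.add_eq_zero.1 h1
      have h3 := h.eq_Vf hn hpq h2
      rw [mem_Vf] at h3
      intro b hb
      obtain ⟨m, rfl⟩ := mem_zpowers_iff.1 hb
      rcases Int.even_or_odd' m with ⟨c, rfl | rfl⟩
      · left
        rw [zpow_mul]
        have : h.tr i p q ^ (2 : ℤ) = 1 := by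
          rw [show (2 : ℤ) = ((2 : ℕ) : ℤ) from rfl, zpow_natCast, pow_two]; exact h.tr_sq i p q
        rw [this, one_zpow]; rfl
      · have : h.tr i p q ^ (2 * c + 1) = h.tr i p q := by
          rw [zpow_add, zpow_mul, zpow_one]
          have : h.tr i p q ^ (2 : ℤ) = 1 := by
            rw [show (2 : ℤ) = ((2 : ℕ) : ℤ) from rfl, zpow_natCast, pow_two]; exact h.tr_sq i p q
          rw [this, one_zpow, one_mul]
        rw [this]
        exact mod_iff.1 h3
    · intro h1
      have h2 := mod_iff.2 (h1 _ (mem_zpowers _))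
      have h3 := h.toEk.e_Yy h2
      rw [map_add] at h3
      have h4 := congrFun (congrFun h3 i) p
      rw [Pi.add_apply, Pi.add_apply, h.tr_e, Equiv.swap_apply_left] at h4
      rw [add_comm]; exact h4
  have hc2 : Nat.card (zpowers (h.tr i p q)) = 2 := by
    rw [Nat.card_zpowers]
    exact orderOf_eq_prime (by rw [pow_two]; exact h.tr_sq i p q) hne
  have h1 : Nat.card f.ker * f.ker.index = Nat.card W := f.ker.card_mul_index
  have h2 : f.ker.index = 2 := by
    rw [AddSubgroup.index_ker, AddMonoidHom.range_eq_top.2 hsurj]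
    rw [AddSubgroup.card_top]
    exact Nat.card_zmod 2
  have h3 : Nat.card f.ker = Nat.card (cm y (zpowers (h.tr i p q))) := Nat.card_congr (Equiv.subtypeEquivRight hker)
  rw [h2, h3] at h1
  unfold MEx
  rw [hc2, ← h1, mul_comm]

end SymW

end Cfsg.Agent.Omega.FOne.Act
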